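import Cfsg.Agent.UGT.FL34.New5
import Cfsg.Agent.UGT.FL34.Extra
import Cfsg.Agent.UGT.FL34.KF34

/-!
# Facts on the Sylow 2-subgroups of `L₃(4)`
-/

set_option autoImplicit false
set_option linter.constructorNameAsVariable false
set_option linter.unusedVariables false

namespace Cfsg.Agent.UGT.ThEP

open Subgroup
open Cfsg.Agent.SporadicA.FieldFour
open Cfsg.Agent.LThreeFour Cfsg.Agent.LThreeFour.Dat
open Cfsg.Agent.ONType.Psl (PSL3)
open Cfsg.Agent.ClassicalGeometry.AutPSL.Root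
open Cfsg.Agent.ClassicalGeometry.AutPSL.Auto
open Cfsg.Agent.UGT.FL34
open Cfsg.Agent.UGT.Iface (IsL34)

/-- Facts on the Sylow 2-subgroups `C_D(s)`, `s` an involution, of `D = L₃(4)`. -/
structure SylFacts (D : Type*) [Group D] : Prop where
  cls : ∀ s t : D, s * s = 1 → s ≠ 1 → t * t = 1 → t ≠ 1 → ∃ g, g * s * g⁻¹ = t
  four : ∀ s p : D, s * s = 1 → s ≠ 1 → p * s = s * p → (p * p) * (p * p) = 1
  /-- `C_D(s)` is generated by involutions -/
  gen2 : ∀ s : D, s * s = 1 → s ≠ 1 → ∀ H : Subgroup D, (∀ p, p * s = s * p → p * p = 1 → p ∈ H) →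
    ∀ p, p * s = s * p → p ∈ H
  /-- `D` is generated by the centralizers of the involutions of `C_D(s)` -/
  cgen : ∀ s : D, s * s = 1 → s ≠ 1 → ∀ H : Subgroup D,
    (∀ p, p * s = s * p → p * p = 1 → p ≠ 1 → ∀ c, c * p = p * c → c ∈ H) → H = ⊤

variable {L : Type*} [Group L]

theorem syl_four (e : PSL3 ≃* L) (s p : L) (hs : s * s = 1) (hs1 : s ≠ 1) (hp : p * s = s * p) :
    (p * p) * (p * p) = 1 := by
  obtain ⟨e', rfl⟩ := exists_x02 e hs hs1
  obtain ⟨q, rfl⟩ := cent_x02.1 hp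
  rw [(D e').el_mul, (D e').el_mul, code_four, (D e').el_one]

theorem syl_gen2 (e : PSL3 ≃* L) (s : L) (hs : s * s = 1) (hs1 : s ≠ 1) (H : Subgroup L)
    (h : ∀ p, p * s = s * p → p * p = 1 → p ∈ H) (p : L) (hp : p * s = s * p) : p ∈ H := by
  obtain ⟨e', rfl⟩ := exists_x02 e hs hs1
  obtain ⟨q, rfl⟩ := cent_x02.1 hp
  rw [(D e').el_eq]
  refine mul_mem (mul_mem (h _ (cent_x02.2 ?_) ((D e').x_sq 0 1 (by decide) _))
    (h _ (cent_x02.2 ?_) ((D e').x_sq 1 2 (by decide) _))) (h _ (cent_x02.2 ?_) ((D e').x_sq 0 2 (by decide) _))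
  · rw [← (D e').el_x01]; exact (D e').el_mem _
  · rw [← (D e').el_x12]; exact (D e').el_mem _
  · rw [← (D e').el_x02]; exact (D e').el_mem _

theorem x01_ne (A : Dat L) : A.x 0 1 1 ≠ 1 := by
  intro h
  rw [← A.el_x01, A.el_eq_one] at h
  exact absurd h (by decide)

theorem x12_ne (A : Dat L) : A.x 1 2 1 ≠ 1 := by
  intro h
  rw [← A.el_x12, A.el_eq_one] at h
  exact absurd h (by decide)

theorem syl_cgen (e : PSL3 ≃* L) (s : L) (hs : s * s = 1) (hs1 : s ≠ 1) (H : Subgroup L)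
    (h : ∀ p, p * s = s * p → p * p = 1 → p ≠ 1 → ∀ c, c * p = p * c → c ∈ H) : H = ⊤ := by
  obtain ⟨e', rfl⟩ := exists_x02 e hs hs1
  have h21 : (D e').x 2 1 1 ∈ H := by
    refine h ((D e').x 0 1 1) (cent_x02.2 ?_) ((D e').x_sq 0 1 (by decide) _) (x01_ne _) _ ?_
    · rw [← (D e').el_x01]; exact (D e').el_mem _
    · exact (D e').x_col 2 1 0 (by decide) (by decide) _ _
  have h10 : (D e').x 1 0 1 ∈ H := by
    refine h ((D e').x 1 2 1) (cent_x02.2 ?_) ((D e').x_sq 1 2 (by decide) _) (x12_ne _) _ ?_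
    · rw [← (D e').el_x12]; exact (D e').el_mem _
    · exact (D e').x_row 1 0 2 (by decide) (by decide) _ _
  apply gen_T (D e')
  · intro c hc
    exact h _ rfl hs hs1 c (cent_x02.2 hc)
  · have h1 := (D e').x_sum 2 0 1 (by decide) (by decide) (by decide) 1 1
    rw [one_mul] at h1
    have h2 : (D e').x 2 0 1 = ((D e').x 1 0 1 * (D e').x 2 1 1)⁻¹ * ((D e').x 2 1 1 * (D e').x 1 0 1) := by
      rw [h1]; group
    rw [h2]
    exact mul_mem (inv_mem (mul_mem h10 h21)) (mul_mem h21 h10)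

theorem sylFacts_of {K : Type*} [Group K] (hK : IsL34 K) : SylFacts K := by
  obtain ⟨F, _, _, hF, ⟨e⟩⟩ := hK
  obtain ⟨e'⟩ := nonempty_psl_equiv (n := Fin 3) F hF
  let e0 : PSL3 ≃* K := e'.trans e.symm
  exact { cls := New5.cls e0, four := syl_four e0, gen2 := syl_gen2 e0, cgen := syl_cgen e0 }

end Cfsg.Agent.UGT.ThEP
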