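import Cfsg.Agent.UGT.ThEP.Base
import Cfsg.Agent.UGT.CE.FactsAut
import Cfsg.Agent.UGT.ThEP.Syl

/-!
# The facts on `L₃(4)` used in Theorem E, paired case
-/

set_option autoImplicit false
set_option linter.constructorNameAsVariable false
set_option linter.unusedVariables false

namespace Cfsg.Agent.UGT.ThEP

open Subgroup
open Cfsg.Agent.SporadicA.FieldFour
open Cfsg.Agent.LThreeFour Cfsg.Agent.LThreeFour.Dat
open Cfsg.Agent.ONType.Psl (PSL3)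
open Cfsg.Agent.ClassicalGeometry.AutPSL.Root
open Cfsg.Agent.ClassicalGeometry.AutPSL.Auto
open Cfsg.Agent.UGT.FL34
open Cfsg.Agent.UGT.Iface (IsL34)

variable {L : Type*} [Group L]

theorem p2 (e : PSL3 ≃* L) (i : L) (hi : i * i = 1) (hi1 : i ≠ 1) : IsPGroup 2 (centralizer ({i} : Set L)) := by
  rintro ⟨l, hl⟩
  refine ⟨2, Subtype.ext ?_⟩
  rw [mem_centralizer_singleton_iff] at hl
  have h1 := syl_four e i l hi hi1 hl
  show l ^ 2 ^ 2 = 1
  rw [show (2 : ℕ) ^ 2 = 2 * 2 by norm_num, pow_mul, pow_two, pow_two]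
  exact h1

set_option maxRecDepth 100000 in
theorem code_p6 : ∀ s : Code, cmul s s = cone → (s.a ≠ 0 ∨ s.b ≠ 0) → ∀ p : Code,
    ∃ q : Code, cmul q s ≠ cmul s q ∧ cmul (cmul q s) (cinv q) ≠ cmul (cmul p s) (cinv p) := by
  decide +kernel

theorem p6 (e : PSL3 ≃* L) (i s : L) (hi : i * i = 1) (hi1 : i ≠ 1) (hs : s * s = 1) (hs1 : s ≠ 1)
    (hsi : s * i = i * s) (h : ∃ p, p * i = i * p ∧ p * s ≠ s * p) (p : L) (hp : p * i = i * p) :
    ∃ q, q * i = i * q ∧ q * s * q⁻¹ ≠ s ∧ q * s * q⁻¹ ≠ p * s * p⁻¹ := by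
  obtain ⟨e', rfl⟩ := exists_x02 e hi hi1
  obtain ⟨cs, rfl⟩ := cent_x02.1 hsi
  obtain ⟨cp, rfl⟩ := cent_x02.1 hp
  have h1 : cmul cs cs = cone := el_sq hs
  have h2 : cs.a ≠ 0 ∨ cs.b ≠ 0 := by
    by_contra h3
    push Not at h3
    obtain ⟨r, hr, hrs⟩ := h
    obtain ⟨cr, rfl⟩ := cent_x02.1 hr
    apply hrs
    have h4 : cs = ⟨0, 0, cs.c⟩ := by
      cases cs
      simp only at h3
      rw [h3.1, h3.2]
    have h5 : ∀ c : F4, ∀ r : Code, cmul r ⟨0, 0, c⟩ = cmul ⟨0, 0, c⟩ r := by decide +kernel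
    rw [h4, (D e').el_mul, (D e').el_mul, h5]
  obtain ⟨q, hq1, hq2⟩ := code_p6 cs h1 h2 cp
  refine ⟨(D e').el q, cent_x02.2 ((D e').el_mem q), ?_, ?_⟩
  · intro h3
    apply hq1
    apply (D e').inj
    rw [← (D e').el_mul, ← (D e').el_mul]
    exact mul_inv_eq_iff_eq_mul.mp h3
  · intro h3
    apply hq2
    apply (D e').inj
    rw [← (D e').el_mul, ← (D e').el_mul, ← (D e').el_mul, ← (D e').el_mul, ← (D e').el_inv, ← (D e').el_inv]
    exact h3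

theorem facts5_of {K : Type*} [Group K] (hK : IsL34 K) {x : MulAut K} (hx : x * x = 1)
    {E : Subgroup (MulAut K)} (hE : LTF.Defs.OddC x E) (h1 : E ≠ ⊥) : Facts5 x := by
  have h2 := CE.L34.facts4_of hK hx hE h1
  obtain ⟨F, _, _, hF, ⟨e⟩⟩ := hK
  obtain ⟨e'⟩ := nonempty_psl_equiv (n := Fin 3) F hF
  let e0 : PSL3 ≃* K := e'.trans e.symm
  exact { toFacts4 := h2, p2 := p2 e0, inv1 := New5.cls e0, p6 := p6 e0 }

end Cfsg.Agent.UGT.ThEP
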