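import Cfsg.Agent.UGT.ThEP.SevenA

/-!
# Theorem E for `L = L₃(4)`, paired case, `x ∉ X`: `C(s) ≤ M` for the involutions `s` of `L`, II
-/

set_option autoImplicit false

open Subgroup
open scoped commutatorElement

namespace Cfsg.Agent.UGT.ThEP

open Cfsg.Agent.UGT.ThE
open Cfsg.Agent.UGT.ThE.Base (comm_of_mem L_conj L_conj' K_le_M L_le_M K_conj K_conj' IsT IsS IsT1 exists_central
  exists_sqrt)
open Cfsg.Agent.UGT.ThEL34
open Cfsg.Agent.UGT.ThEL34.Out (comm_of_fix)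
open Cfsg.Agent.UGT.CE.L34 (Facts3 Facts4 YY mem_YY)

variable {G : Type*} [Group G]

namespace Ctx

variable {S L : Subgroup G} {x : G} (H : Ctx S L x)
include H

omit H in
theorem sqc {m f : G} (hf : IsT L x f) : m⁻¹ * f * m * (m⁻¹ * f * m) = 1 := by
  calc m⁻¹ * f * m * (m⁻¹ * f * m) = m⁻¹ * (f * f) * m := by group
    _ = 1 := by rw [hf.sq]; group

theorem hM [Finite G] {s m f : G} (hs : IsS L x s) (hm : m * s = s * m) (hf : IsT L x f) :
    m⁻¹ * f * m ∈ normalizer (L : Set G) := by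
  have := H.e6s (c := m⁻¹) hs hf (inv_comm hm)
  rwa [inv_inv] at this

/-- no element acts wildly -/
theorem e8w [Finite G] {X : MulAut L} (F : Facts5 X) {s m v : G} (hs : IsS L x s)
    (hm : m * s = s * m) (hmM : m ∉ normalizer (L : Set G))
    (hvT : IsT L x v) {a : MulAut L} (ha : Acts L (m⁻¹ * v * m) a) : ¬ Wild X a := by
  intro hw
  have hfalse : (∀ l ∈ L, m * l * m⁻¹ ∈ normalizer (L : Set G)) → False := H.noLm hs.mem hs.ne hm hmM
  have h1 : ∀ j : L, a j = j → m * (j : G) * m⁻¹ ∈ normalizer (L : Set G) := fun j hj =>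
    H.J_le F.toFacts hs hm hvT ha hw hj
  obtain ⟨u, hu, hvu, hvuT⟩ := H.exists_snd hvT
  obtain ⟨b, hb⟩ := exists_acts (H.hM hs hm hu)
  have hab : Acts L (m⁻¹ * (v * u) * m) (a * b) := by
    have h2 := ha.mul hb
    have h3 : m⁻¹ * v * m * (m⁻¹ * u * m) = m⁻¹ * (v * u) * m := by group
    rwa [h3] at h2
  have hcab : a * b = b * a := ha.comm hb (by
    calc m⁻¹ * v * m * (m⁻¹ * u * m) = m⁻¹ * (v * u) * m := by group
      _ = m⁻¹ * (u * v) * m := by rw [hvu]
      _ = _ := by group)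
  have hbb := hb.sq (sqc hu)
  have haa := hw.sq
  -- an inner element
  have hinn : ∀ (w : G) (c : MulAut L) (i : L), IsT L x w → Acts L (m⁻¹ * w * m) c → a * c = c * a →
      c = MulAut.conj i → False := by
    intro w c i hwT hc hac hci
    have hcc := hc.sq (sqc hwT)
    rw [hci] at hcc
    have hii := F.sq_of_conj hcc
    have hi1 : i ≠ 1 := by
      rintro rfl
      rw [map_one] at hci
      exact H.notK hs.mem hs.ne hm hmM hwT (hc.eq_one_iff.mp hci)
    refine hfalse (Hyp.gen_le F.toFacts hw (i := i) hii hi1 ?_ h1 ?_)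
    · rw [hci] at hac
      exact (F.comm_conj_iff a i).mp hac
    · intro j hj
      rw [hci] at hc
      exact H.P_le F hs hm hwT hc hii hi1 hj
  by_cases hab1 : ∃ i, a * b = MulAut.conj i
  · obtain ⟨i, hi⟩ := hab1
    refine hinn (v * u) (a * b) i hvuT hab ?_ hi
    calc a * (a * b) = a * (b * a) := by rw [hcab]
      _ = a * b * a := by group
  have habab : a * b * (a * b) = 1 := hab.sq (sqc hvuT)
  rcases tri X hbb with ⟨i, hi⟩ | ⟨l, hl⟩ | hwb
  · exact hinn u b i hu hb hcab hi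
  · have hwab : Wild X (a * b) := by
      refine ⟨habab, fun i hi => hab1 ⟨i, hi⟩, fun l' hl' => ?_⟩
      have h4 : a = MulAut.conj (X (l' * l⁻¹)) := by
        rw [← conj_conj, F.xinv, map_mul, map_inv]
        calc a = (a * b) * b⁻¹ := by group
          _ = X * MulAut.conj l' * (X * MulAut.conj l)⁻¹ := by rw [hl', hl]
          _ = X * MulAut.conj l' * ((MulAut.conj l)⁻¹ * X⁻¹) := by group
          _ = _ := by rw [F.xinv]; group
      exact hw.inn _ h4
    have h3 : ∀ j : L, (a * b) j = j → m * (j : G) * m⁻¹ ∈ normalizer (L : Set G) := fun j hj =>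
      H.J_le F.toFacts hs hm hvuT hab hwab hj
    refine hfalse (gen_le2 F.toFacts hw hwab ?_ ⟨l, ?_⟩ h1 h3)
    · calc a * (a * b) = a * (b * a) := by rw [hcab]
        _ = a * b * a := by group
    · rw [← mul_assoc, haa, one_mul, hl]
  · rcases tri X habab with ⟨i, hi⟩ | hl | hwab
    · exact hab1 ⟨i, hi⟩
    · have h2 : ∀ j : L, b j = j → m * (j : G) * m⁻¹ ∈ normalizer (L : Set G) := fun j hj =>
        H.J_le F.toFacts hs hm hu hb hwb hj
      exact hfalse (gen_le2 F.toFacts hw hwb hcab hl h1 h2)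
    · exact F.not_wild_mul hw hwb hwab

/-- the elements act as inner automorphisms -/
theorem e8b [Finite G] {X : MulAut L} (F : Facts5 X) {s m v : G} (hs : IsS L x s)
    (hm : m * s = s * m) (hmM : m ∉ normalizer (L : Set G)) (hvT : IsT L x v) :
    ∃ i : L, Acts L (m⁻¹ * v * m) (MulAut.conj i) ∧ i * i = 1 ∧ i ≠ 1 ∧ i * ⟨s, hs.mem⟩ = ⟨s, hs.mem⟩ * i ∧
      i ≠ ⟨s, hs.mem⟩ := by
  have hmi := inv_comm hm
  have hss : (⟨s, hs.mem⟩ : L) * ⟨s, hs.mem⟩ = 1 := Subtype.ext hs.sq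
  -- the action commutes with `s`
  have hcs : ∀ f, IsT L x f → ∀ c, Acts L (m⁻¹ * f * m) c → c ⟨s, hs.mem⟩ = ⟨s, hs.mem⟩ := by
    intro f hfT c hc
    rw [hc.fix_iff]
    have hfs : f * s = s * f := (comm_of_mem hs.mem hfT.mem).symm
    change m⁻¹ * f * m * s = s * (m⁻¹ * f * m)
    calc m⁻¹ * f * m * s = m⁻¹ * f * (m * s) := by group
      _ = m⁻¹ * (f * s) * m := by rw [hm]; group
      _ = (m⁻¹ * s) * f * m := by rw [hfs]; group
      _ = s * (m⁻¹ * f * m) := by rw [hmi]; group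
  -- inner elements
  have hinn : ∀ w i, IsT L x w → Acts L (m⁻¹ * w * m) (MulAut.conj i) →
      i * i = 1 ∧ i ≠ 1 ∧ i * ⟨s, hs.mem⟩ = ⟨s, hs.mem⟩ * i ∧ i ≠ ⟨s, hs.mem⟩ := by
    intro w i hwT hw
    refine ⟨F.sq_of_conj (hw.sq (sqc hwT)), ?_, ?_, ?_⟩
    · rintro rfl
      rw [map_one] at hw
      exact H.notK hs.mem hs.ne hm hmM hwT (acts_one_iff.mp hw)
    · have h1 := hcs w hwT _ hw
      rw [MulAut.conj_apply] at h1
      exact mul_inv_eq_iff_eq_mul.mp h1
    · rintro rfl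
      apply H.notS hs hm hmM hwT
      have h1 := hw.mul (acts_coe ⟨s, hs.mem⟩)
      rw [← map_mul, hss, map_one] at h1
      exact acts_one_iff.mp h1
  obtain ⟨a, ha⟩ := exists_acts (H.hM hs hm hvT)
  have haa := ha.sq (sqc hvT)
  rcases tri X haa with ⟨i, hi⟩ | ⟨l, hl⟩ | hw
  · rw [hi] at ha
    exact ⟨i, ha, hinn v i hvT ha⟩
  · exfalso
    obtain ⟨u, hu, hvu, hvuT⟩ := H.exists_snd hvT
    obtain ⟨b, hb⟩ := exists_acts (H.hM hs hm hu)
    have hab : Acts L (m⁻¹ * (v * u) * m) (a * b) := by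
      have h2 := ha.mul hb
      have h3 : m⁻¹ * v * m * (m⁻¹ * u * m) = m⁻¹ * (v * u) * m := by group
      rwa [h3] at h2
    have hcab : a * b = b * a := ha.comm hb (by
      calc m⁻¹ * v * m * (m⁻¹ * u * m) = m⁻¹ * (v * u) * m := by group
        _ = m⁻¹ * (u * v) * m := by rw [hvu]
        _ = _ := by group)
    -- an inner element commuting with `a`
    have hex : ∃ (w : G) (i : L), IsT L x w ∧
        Acts L (m⁻¹ * w * m) (MulAut.conj i) ∧ a * MulAut.conj i = MulAut.conj i * a := by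
      rcases tri X (hb.sq (sqc hu)) with ⟨i, hi⟩ | ⟨l', hl'⟩ | hwb
      · rw [hi] at hb hcab
        exact ⟨u, i, hu, hb, hcab⟩
      · have h4 : a * b = MulAut.conj (X l * l') := by
          rw [map_mul, ← conj_conj, F.xinv, hl, hl']
          group
        rw [h4] at hab
        refine ⟨v * u, _, hvuT, hab, ?_⟩
        rw [← h4]
        calc a * (a * b) = a * (b * a) := by rw [hcab]
          _ = a * b * a := by group
      · exact absurd hwb (H.e8w F hs hm hmM hu hb)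
    obtain ⟨w, i, hwT, hwi, hai⟩ := hex
    obtain ⟨hii, hi1, his, hins⟩ := hinn w i hwT hwi
    have hai' := (F.comm_conj_iff a i).mp hai
    have has := hcs v hvT a ha
    rw [hl] at haa
    obtain ⟨k, hk⟩ := F.xconj l haa
    rw [← hl] at hk
    have htr : ∀ z : L, a z = z → X (k * z * k⁻¹) = k * z * k⁻¹ := by
      intro z hz
      have h5 : X (k * z * k⁻¹) = k * (a z) * k⁻¹ := by
        rw [← hk, MulAut.mul_apply, MulAut.mul_apply, MulAut.conj_apply, ← map_inv, MulAut.conj_apply]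
        congr 3
        group
      rw [h5, hz]
    have h6 := F.comm (k * i * k⁻¹) (k * ⟨s, hs.mem⟩ * k⁻¹)
      (by calc k * i * k⁻¹ * (k * i * k⁻¹) = k * (i * i) * k⁻¹ := by group
            _ = 1 := by rw [hii]; group)
      (by calc k * ⟨s, hs.mem⟩ * k⁻¹ * (k * ⟨s, hs.mem⟩ * k⁻¹) =
                k * ((⟨s, hs.mem⟩ : L) * ⟨s, hs.mem⟩) * k⁻¹ := by group
            _ = 1 := by rw [hss]; group)
      (fun h => hi1 (by
        calc i = k⁻¹ * (k * i * k⁻¹) * k := by group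
          _ = 1 := by rw [h]; group))
      (fun h => hs.ne (by
        have h7 : (⟨s, hs.mem⟩ : L) = 1 := by
          calc (⟨s, hs.mem⟩ : L) = k⁻¹ * (k * ⟨s, hs.mem⟩ * k⁻¹) * k := by group
            _ = 1 := by rw [h]; group
        exact congrArg Subtype.val h7))
      (htr i hai') (htr _ has)
      (by calc k * i * k⁻¹ * (k * ⟨s, hs.mem⟩ * k⁻¹) = k * (i * ⟨s, hs.mem⟩) * k⁻¹ := by group
            _ = k * (⟨s, hs.mem⟩ * i) * k⁻¹ := by rw [his]
            _ = _ := by group)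
    exact hins (mul_left_cancel (mul_right_cancel h6))
  · exact absurd hw (H.e8w F hs hm hmM hvT ha)

/-- the elements act as involutions outside the centre of `C_L(s)` -/
theorem e8c' [Finite G] {X : MulAut L} (F : Facts5 X) {s m v : G} (hs : IsS L x s)
    (hm : m * s = s * m) (hmM : m ∉ normalizer (L : Set G))
    (hvT : IsT L x v) {i : L} (hi : Acts L (m⁻¹ * v * m) (MulAut.conj i)) :
    ∃ p : L, p * ⟨s, hs.mem⟩ = ⟨s, hs.mem⟩ * p ∧ p * i ≠ i * p := by
  by_contra hcon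
  push Not at hcon
  obtain ⟨s', hs'⟩ : ∃ s' : L, s' = ⟨s, hs.mem⟩ := ⟨_, rfl⟩
  have hs'G : (s' : G) = s := by rw [hs']
  obtain ⟨i', hi', hii, hi1, his, hins⟩ := H.e8b F hs hm hmM hvT
  have e1 : i' = i := F.conj_inj (hi'.uniq hi)
  rw [e1] at hii hi1 his hins
  obtain ⟨u, hu, hvu, hvuT⟩ := H.exists_snd hvT
  obtain ⟨j, hj, hjj, hj1, hjs, hjns⟩ := H.e8b F hs hm hmM hu
  obtain ⟨k, hk, hkk, hk1, hks, hkns⟩ := H.e8b F hs hm hmM hvuT
  rw [← hs'] at hcon his hins hjs hjns hks hkns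
  have hij : Acts L (m⁻¹ * (v * u) * m) (MulAut.conj (i * j)) := by
    have h2 := hi.mul hj
    have h3 : m⁻¹ * v * m * (m⁻¹ * u * m) = m⁻¹ * (v * u) * m := by group
    rw [h3, ← map_mul] at h2
    exact h2
  have hkij : k = i * j := F.conj_inj (hk.uniq hij)
  have hji : j * i = i * j := by
    rw [← F.conj_comm_iff]
    exact hj.comm hi (by
      calc m⁻¹ * u * m * (m⁻¹ * v * m) = m⁻¹ * (u * v) * m := by group
        _ = m⁻¹ * (v * u) * m := by rw [hvu]
        _ = _ := by group)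
  have hss : s' * s' = 1 := Subtype.ext (by
    change (s' : G) * s' = 1
    rw [hs'G]; exact hs.sq)
  have hs1 : s' ≠ 1 := fun h => hs.ne (by rw [← hs'G, h]; rfl)
  obtain ⟨n, p, hn, hp, hnp⟩ := F.p3 s' i j hss hs1 hii hi1 hjj hj1 hcon hins hjs hji
    (fun h => by
      rw [h, hii] at hkij
      exact hk1 hkij)
    hjns
    (fun h => by
      apply hkns
      rw [hkij, h, ← mul_assoc, hii, one_mul])
  -- `m n m⁻¹`, `m p m⁻¹ ∈ M`
  have hnM : m * (n : G) * m⁻¹ ∈ normalizer (L : Set G) := H.P_le F hs hm hu hj hjj hj1 hn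
  have hpM : m * (p : G) * m⁻¹ ∈ normalizer (L : Set G) := H.P_le F hs hm hvT hi hii hi1 hp
  have hc : m * ((n * i * n⁻¹ * i⁻¹ : L) : G) * m⁻¹ ∈ centralizer (L : Set G) := by
    have h1 : ((n * i * n⁻¹ * i⁻¹ : L) : G) = (n : G) * (m⁻¹ * v * m) * (n : G)⁻¹ * (m⁻¹ * v * m)⁻¹ := by
      have h2 := hi n⁻¹
      rw [MulAut.conj_apply] at h2
      have h3 : ((i * n⁻¹ * i⁻¹ : L) : G) = m⁻¹ * v * m * (n : G)⁻¹ * (m⁻¹ * v * m)⁻¹ := h2
      calc ((n * i * n⁻¹ * i⁻¹ : L) : G) = (n : G) * ((i * n⁻¹ * i⁻¹ : L) : G) := by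
            change (n : G) * (i : G) * (n : G)⁻¹ * (i : G)⁻¹ = (n : G) * ((i : G) * (n : G)⁻¹ * (i : G)⁻¹)
            group
        _ = _ := by rw [h3]; group
    rw [h1]
    have h2 : m * ((n : G) * (m⁻¹ * v * m) * (n : G)⁻¹ * (m⁻¹ * v * m)⁻¹) * m⁻¹ =
        ((m * (n : G) * m⁻¹) * v * (m * (n : G) * m⁻¹)⁻¹) * v⁻¹ := by group
    rw [h2]
    exact mul_mem (K_conj hnM hvT.mem) (inv_mem hvT.mem)
  apply hs.ne
  apply H.disj hs.mem
  obtain ⟨c, hcd⟩ : ∃ c : L, c = n * i * n⁻¹ * i⁻¹ := ⟨_, rfl⟩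
  rw [← hcd] at hnp hc
  have h1 : s = (p : G) * (c : G) * (p : G)⁻¹ * (c : G)⁻¹ := by
    rw [← hs'G]
    exact congrArg Subtype.val hnp
  have h2 : m * s * m⁻¹ = ((m * (p : G) * m⁻¹) * (m * (c : G) * m⁻¹) * (m * (p : G) * m⁻¹)⁻¹) *
      (m * (c : G) * m⁻¹)⁻¹ := by
    rw [h1]; group
  rw [← cj_of_comm hm, h2]
  exact mul_mem (K_conj hpM hc) (inv_mem hc)

/-- **(7)** for the involutions `s` of `C_L(x)` -/
theorem e8 [Finite G] {s m : G} (hs : IsS L x s) (hm : m * s = s * m) : m ∈ normalizer (L : Set G) := by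
  by_contra hmM
  obtain ⟨X, hX, F⟩ := H.fct
  have hmi := inv_comm hm
  obtain ⟨s', hs'⟩ : ∃ s' : L, s' = ⟨s, hs.mem⟩ := ⟨_, rfl⟩
  have hs'G : (s' : G) = s := by rw [hs']
  have hss : s' * s' = 1 := Subtype.ext (by
    change (s' : G) * s' = 1
    rw [hs'G]; exact hs.sq)
  have hs1 : s' ≠ 1 := fun h => hs.ne (by rw [← hs'G, h]; rfl)
  obtain ⟨W, hW⟩ : ∃ W, W = closure {w | ∃ n v, n * s = s * n ∧ IsT L x v ∧ w = n * v * n⁻¹} := ⟨_, rfl⟩
  have hvs : ∀ {v}, IsT L x v → v * s = s * v := fun h => (comm_of_mem hs.mem h.mem).symm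
  have hgen : ∀ n v, n * s = s * n → IsT L x v → n * v * n⁻¹ ∈ W := by
    intro n v h1 h2
    rw [hW]
    exact subset_closure ⟨n, v, h1, h2, rfl⟩
  have hWM : W ≤ normalizer (L : Set G) := by
    rw [hW, closure_le]
    rintro w ⟨n, v, h1, h2, rfl⟩
    exact H.e6s hs h2 h1
  have hWn : ∀ c, c * s = s * c → ∀ w ∈ W, c * w * c⁻¹ ∈ W := by
    intro c hc w hw
    rw [hW] at hw
    induction hw using closure_induction with
    | mem w hw =>
      obtain ⟨n, v, h1, h2, rfl⟩ := hw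
      have : c * (n * v * n⁻¹) * c⁻¹ = (c * n) * v * (c * n)⁻¹ := by group
      rw [this]
      exact hgen _ v (by
        calc c * n * s = c * (n * s) := by group
          _ = (c * s) * n := by rw [h1]; group
          _ = s * (c * n) := by rw [hc]; group) h2
    | one => rw [mul_one, mul_inv_cancel]; exact one_mem _
    | mul y z _ _ h1 h2 =>
      have : c * (y * z) * c⁻¹ = (c * y * c⁻¹) * (c * z * c⁻¹) := by group
      rw [this]
      exact mul_mem h1 h2
    | inv y _ h1 =>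
      have : c * y⁻¹ * c⁻¹ = (c * y * c⁻¹)⁻¹ := by group
      rw [this]
      exact inv_mem h1
  -- the action of `W` on `m L m⁻¹`
  have hQ : ∀ w ∈ W, ∃ p : L, p * s' = s' * p ∧ Acts L (m⁻¹ * w * m) (MulAut.conj p) := by
    intro w hw
    rw [hW] at hw
    induction hw using closure_induction with
    | mem w hw =>
      obtain ⟨n, v, h1, h2, rfl⟩ := hw
      have e1 : m⁻¹ * (n * v * n⁻¹) * m = (n⁻¹ * m)⁻¹ * v * (n⁻¹ * m) := by group
      have e2 : (n⁻¹ * m) * s = s * (n⁻¹ * m) := by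
        calc n⁻¹ * m * s = n⁻¹ * (m * s) := by group
          _ = (n⁻¹ * s) * m := by rw [hm]; group
          _ = s * (n⁻¹ * m) := by rw [inv_comm h1]; group
      rw [e1]
      by_cases h4 : n⁻¹ * m ∈ normalizer (L : Set G)
      · refine ⟨1, by rw [one_mul, mul_one], ?_⟩
        rw [map_one, acts_one_iff]
        exact K_conj' h4 h2.mem
      · obtain ⟨i, hi, -, -, his, -⟩ := H.e8b F hs e2 h4 h2
        rw [← hs'] at his
        exact ⟨i, his, hi⟩
    | one =>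
      refine ⟨1, by rw [one_mul, mul_one], ?_⟩
      rw [map_one, acts_one_iff]
      have : m⁻¹ * 1 * m = 1 := by group
      rw [this]
      exact one_mem _
    | mul y z _ _ h1 h2 =>
      obtain ⟨p, hp, h3⟩ := h1
      obtain ⟨q, hq, h4⟩ := h2
      refine ⟨p * q, ?_, ?_⟩
      · calc p * q * s' = p * (q * s') := by group
          _ = (p * s') * q := by rw [hq]; group
          _ = s' * (p * q) := by rw [hp]; group
      · have h5 := h3.mul h4
        have h6 : m⁻¹ * y * m * (m⁻¹ * z * m) = m⁻¹ * (y * z) * m := by group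
        rw [h6, ← map_mul] at h5
        exact h5
    | inv y _ h1 =>
      obtain ⟨p, hp, h3⟩ := h1
      refine ⟨p⁻¹, inv_comm hp, ?_⟩
      have h5 := h3.inv
      have h6 : (m⁻¹ * y * m)⁻¹ = m⁻¹ * y⁻¹ * m := by group
      rw [h6, ← map_inv] at h5
      exact h5
  -- the commutator subgroup acts as central elements of `C_L(s)`
  have hQ2 : ∀ w ∈ ⁅W, W⁆, ∃ p : L, p * s' = s' * p ∧ (∀ r, r * s' = s' * r → p * r = r * p) ∧
      Acts L (m⁻¹ * w * m) (MulAut.conj p) := by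
    intro w hw
    rw [Subgroup.commutator_def] at hw
    induction hw using closure_induction with
    | mem w hw =>
      obtain ⟨y, hy, z, hz, rfl⟩ := hw
      obtain ⟨p, hp, h3⟩ := hQ y hy
      obtain ⟨q, hq, h4⟩ := hQ z hz
      refine ⟨p * q * p⁻¹ * q⁻¹, ?_, fun r hr => F.p4 s' hss hs1 p q r hp hq hr, ?_⟩
      · exact F.p4 s' hss hs1 p q s' hp hq rfl
      · have h5 := ((h3.mul h4).mul h3.inv).mul h4.inv
        have h6 : m⁻¹ * y * m * (m⁻¹ * z * m) * (m⁻¹ * y * m)⁻¹ * (m⁻¹ * z * m)⁻¹ =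
            m⁻¹ * ⁅y, z⁆ * m := by
          rw [commutatorElement_def]; group
        rw [h6] at h5
        rw [map_mul, map_mul, map_mul, map_inv, map_inv]
        exact h5
    | one =>
      refine ⟨1, by rw [one_mul, mul_one], fun r _ => by rw [one_mul, mul_one], ?_⟩
      rw [map_one, acts_one_iff]
      have : m⁻¹ * 1 * m = 1 := by group
      rw [this]
      exact one_mem _
    | mul y z _ _ h1 h2 =>
      obtain ⟨p, hp, hp2, h3⟩ := h1
      obtain ⟨q, hq, hq2, h4⟩ := h2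
      refine ⟨p * q, ?_, fun r hr => ?_, ?_⟩
      · calc p * q * s' = p * (q * s') := by group
          _ = (p * s') * q := by rw [hq]; group
          _ = s' * (p * q) := by rw [hp]; group
      · calc p * q * r = p * (q * r) := by group
          _ = (p * r) * q := by rw [hq2 r hr]; group
          _ = r * (p * q) := by rw [hp2 r hr]; group
      · have h5 := h3.mul h4
        have h6 : m⁻¹ * y * m * (m⁻¹ * z * m) = m⁻¹ * (y * z) * m := by group
        rw [h6, ← map_mul] at h5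
        exact h5
    | inv y _ h1 =>
      obtain ⟨p, hp, hp2, h3⟩ := h1
      refine ⟨p⁻¹, inv_comm hp, fun r hr => inv_comm (hp2 r hr), ?_⟩
      have h5 := h3.inv
      have h6 : (m⁻¹ * y * m)⁻¹ = m⁻¹ * y⁻¹ * m := by group
      rw [h6, ← map_inv] at h5
      exact h5
  -- the commutator of `v` with its conjugate under `m x m⁻¹`
  obtain ⟨v, hvT⟩ := H.four
  obtain ⟨i, hi, hii, hi1, his, hins⟩ := H.e8b F hs hm hmM hvT
  have hip := H.e8c' F hs hm hmM hvT hi
  rw [← hs'] at his hip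
  have hmx : (m * x * m⁻¹) * s = s * (m * x * m⁻¹) := by
    calc m * x * m⁻¹ * s = m * x * (m⁻¹ * s) := by group
      _ = m * (x * s) * m⁻¹ := by rw [hmi]; group
      _ = (m * s) * x * m⁻¹ := by rw [← hs.comm]; group
      _ = s * (m * x * m⁻¹) := by rw [hm]; group
  obtain ⟨w, hwd⟩ : ∃ w, w = (m * x * m⁻¹) * v * (m * x * m⁻¹)⁻¹ := ⟨_, rfl⟩
  have hwW : w ∈ W := by rw [hwd]; exact hgen _ v hmx hvT
  have hvW : v ∈ W := by
    have := hgen 1 v (by rw [one_mul, mul_one]) hvT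
    rwa [one_mul, inv_one, mul_one] at this
  obtain ⟨g₀, hg₀⟩ : ∃ g₀, g₀ = v * w * v⁻¹ * w⁻¹ := ⟨_, rfl⟩
  have hg₀W : g₀ ∈ ⁅W, W⁆ := by
    rw [hg₀, ← commutatorElement_def]
    exact commutator_mem_commutator hvW hwW
  have hg₀K : g₀ ∈ centralizer (L : Set G) := by
    have : g₀ = v * (w * v⁻¹ * w⁻¹) := by rw [hg₀]; group
    rw [this]
    exact mul_mem hvT.mem (K_conj (hWM hwW) (inv_mem hvT.mem))
  have hwa : Acts L (m⁻¹ * w * m) (MulAut.conj (X i)) := by
    have h1 := (hX.mul hi).mul hX.inv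
    have h2 : x * (m⁻¹ * v * m) * x⁻¹ = m⁻¹ * w * m := by rw [hwd]; group
    rw [h2, conj_conj] at h1
    exact h1
  obtain ⟨q, hq⟩ : ∃ q : L, q = i * X i * i⁻¹ * (X i)⁻¹ := ⟨_, rfl⟩
  have hg₀a : Acts L (m⁻¹ * g₀ * m) (MulAut.conj q) := by
    have h1 := ((hi.mul hwa).mul hi.inv).mul hwa.inv
    have h2 : m⁻¹ * v * m * (m⁻¹ * w * m) * (m⁻¹ * v * m)⁻¹ * (m⁻¹ * w * m)⁻¹ = m⁻¹ * g₀ * m := by
      rw [hg₀]; group
    rw [h2] at h1
    rw [hq, map_mul, map_mul, map_mul, map_inv, map_inv]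
    exact h1
  have hXs : X s' = s' := (hX.fix_iff s').mpr (by rw [hs'G]; exact hs.comm.symm)
  have hq1 : q ≠ 1 := by
    intro h
    apply F.p5 s' i hss hs1 hXs hii his hip
    rw [hq, mul_inv_eq_one, mul_inv_eq_iff_eq_mul] at h
    exact h
  obtain ⟨q', hq's, hq'c, hq'⟩ := hQ2 g₀ hg₀W
  have e1 : q' = q := F.conj_inj (hq'.uniq hg₀a)
  rw [e1] at hq's hq'c
  have hqq : q * q = 1 := F.p4' s' hss hs1 q hq's (fun r hr => (hq'c r hr).symm)
  obtain ⟨D, hD⟩ : ∃ D, D = ⁅W, W⁆ ⊓ centralizer (L : Set G) := ⟨_, rfl⟩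
  have hev : 2 ∣ Nat.card D := by
    have hgD : g₀ ∈ D := by rw [hD]; exact ⟨hg₀W, hg₀K⟩
    have h1 : orderOf g₀ ∣ Nat.card D := by
      have := orderOf_dvd_natCard (⟨g₀, hgD⟩ : D)
      rwa [Subgroup.orderOf_mk] at this
    refine dvd_trans ?_ h1
    by_contra hodd
    have hodd' : Odd (orderOf g₀) := by
      rw [← Nat.not_even_iff_odd]
      intro h
      exact hodd h.two_dvd
    obtain ⟨N, hN⟩ := hodd'
    have h2 : g₀ ^ (2 * N + 1) = 1 := by rw [← hN]; exact pow_orderOf_eq_one g₀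
    have h3 : ∀ n : ℕ, Acts L (m⁻¹ * g₀ ^ n * m) (MulAut.conj (q ^ n)) := by
      intro n
      induction n with
      | zero =>
        rw [pow_zero, pow_zero, map_one, acts_one_iff]
        have : m⁻¹ * 1 * m = 1 := by group
        rw [this]
        exact one_mem _
      | succ n ih =>
        have h5 := ih.mul hg₀a
        have h6 : m⁻¹ * g₀ ^ n * m * (m⁻¹ * g₀ * m) = m⁻¹ * g₀ ^ (n + 1) * m := by
          rw [pow_succ]; group
        rw [h6, ← map_mul, ← pow_succ] at h5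
        exact h5
    have h4 := h3 (2 * N + 1)
    rw [h2, pow_succ, pow_mul, pow_two, hqq, one_pow, one_mul] at h4
    have h5 : m⁻¹ * 1 * m = 1 := by group
    rw [h5] at h4
    exact hq1 (F.cl q (h4.uniq acts_one))
  have hxDn : ∀ d ∈ D, MulAut.conj x d ∈ D := by
    intro d hd
    rw [hD] at hd ⊢
    refine ⟨?_, ?_⟩
    · have h1 : MulAut.conj x d ∈ (⁅W, W⁆).map (MulAut.conj x).toMonoidHom := ⟨d, hd.1, rfl⟩
      rw [map_commutator] at h1
      have h2 : W.map (MulAut.conj x).toMonoidHom ≤ W := by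
        rintro _ ⟨w, hw, rfl⟩
        exact hWn x hs.comm.symm w hw
      exact commutator_mono h2 h2 h1
    · exact K_conj H.xM hd.2
  obtain ⟨z, hz, hzz, hz1, hzx⟩ := exists_fixed_inv (MulAut.conj x) (by
    rw [← map_mul, H.xx, map_one]) D hxDn hev
  rw [hD] at hz
  have hzx' : z * x = x * z := by
    have h1 : x * z * x⁻¹ = z := hzx
    calc z * x = (x * z * x⁻¹) * x := by rw [h1]
      _ = x * z := by group
  have hzT : IsT L x z := ⟨hz.2, hzx', hzz, hz1⟩
  obtain ⟨j, hj, -, -, -, -⟩ := H.e8b F hs hm hmM hzT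
  obtain ⟨p, hp, hpj⟩ := H.e8c' F hs hm hmM hzT hj
  rw [← hs'] at hp
  obtain ⟨k, -, hkc, hk⟩ := hQ2 z hz.1
  have e2 : k = j := F.conj_inj (hk.uniq hj)
  rw [e2] at hkc
  exact hpj (hkc p hp).symm

/-- **(7)** `C(s) ≤ M` for the involutions `s` of `L` -/
theorem Cb [Finite G] {s m : G} (hs : s ∈ L) (hss : s * s = 1) (hs1 : s ≠ 1) (hm : m * s = s * m) :
    m ∈ normalizer (L : Set G) := by
  obtain ⟨X, hX, F⟩ := H.fct
  obtain ⟨s₀, hs₀⟩ := H.exS
  obtain ⟨l, hl⟩ := F.inv1 ⟨s, hs⟩ ⟨s₀, hs₀.mem⟩ (Subtype.ext hss) (fun h => hs1 (congrArg Subtype.val h))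
    (Subtype.ext hs₀.sq) (fun h => hs₀.ne (congrArg Subtype.val h))
  have hl' : (l : G) * s * (l : G)⁻¹ = s₀ := congrArg Subtype.val hl
  have h1 : (l : G) * m * (l : G)⁻¹ ∈ normalizer (L : Set G) := by
    apply H.e8 hs₀
    rw [← hl']
    calc (l : G) * m * (l : G)⁻¹ * ((l : G) * s * (l : G)⁻¹) = l * (m * s) * (l : G)⁻¹ := by group
      _ = l * (s * m) * (l : G)⁻¹ := by rw [hm]
      _ = _ := by group
  have h2 : m = (l : G)⁻¹ * ((l : G) * m * (l : G)⁻¹) * l := by group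
  rw [h2]
  exact mul_mem (mul_mem (inv_mem (L_le_M l.2)) h1) (L_le_M l.2)

end Ctx

end Cfsg.Agent.UGT.ThEP
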