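import Cfsg.Agent.UGT.ThEP.Nine
import Cfsg.Agent.UGT.ThEP.SevenB
import Cfsg.Agent.UGT.ThEP.KFacts
import Cfsg.Agent.UGT.CE.HStar34

/-!
# Theorem E for `L = L₃(4)`, paired case: from `QGrp`

`PIn O L B x`: the hypotheses on `L` and the bad involution `x` (`x ∈ S` or not). `POut O S L B x`: those for `x ∉ S`.
-/

set_option autoImplicit false

open Subgroup

namespace Cfsg.Agent.UGT.ThEP

open Cfsg.Agent.UGT.ThE.Base (comm_of_mem L_conj L_conj' K_le_M L_le_M K_conj K_conj' IsT IsS IsT1)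
open Cfsg.Agent.UGT.ThEL34
open Cfsg.Agent.UGT.CE.L34 (Facts3 Facts4 YY mem_YY perfect_bot QGrp HGrp)
open Cfsg.Agent.UGT.Iface (IsL34)

/-- the facts for Theorem E -/
theorem facts5_of_four {K : Type*} [Group K] (hK : IsL34 K) {x : MulAut K} (F : Facts4 x) : Facts5 x := by
  obtain ⟨E, _, _, hE, ⟨e⟩⟩ := hK
  obtain ⟨e'⟩ := Cfsg.Agent.SporadicA.FieldFour.nonempty_psl_equiv (n := Fin 3) E hE
  exact { toFacts4 := F, p2 := p2 (e'.trans e.symm), inv1 := Cfsg.Agent.UGT.FL34.New5.cls (e'.trans e.symm),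
          p6 := p6 (e'.trans e.symm) }

variable {G : Type*} [Group G]

/-- The hypotheses on `L` and the bad involution `x`. -/
structure PIn (O : G → Subgroup G) (L : Subgroup G) (B : G → Prop) (x : G) : Prop extends QGrp O L B where
  Bx : B x
  l34 : IsL34 L
  rk : ∀ t, IsT L x t → ∃ u, IsT L x u ∧ u ≠ t ∧ u * t = t * u
  /-- `L` is a component of `C(t)` and `C(t')` -/
  cmp2 : ∀ t t' g, IsT L x t → IsT L x t' → g * t * g⁻¹ = t' → Sim L g
  /-- `x` normalises no conjugate of `L` commuting with `L` -/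
  twin : ∀ g, g⁻¹ * x * g ∈ normalizer (L : Set G) → (∀ l ∈ L, g * l * g⁻¹ ∈ centralizer (L : Set G)) → False

theorem PIn.base [Finite G] {O : G → Subgroup G} {L : Subgroup G} {B : G → Prop} {x : G} (H : PIn O L B x) :
    Base L x where
  xx := H.sq H.Bx
  fct := by
    obtain ⟨X, hX, F⟩ := H.facts H.Bx
    exact ⟨X, hX, facts5_of_four H.l34 (H.c5 H.Bx X hX).toFacts4⟩
  four := by
    obtain ⟨t, u, ht, -⟩ := H.four H.Bx
    exact ⟨t, ht⟩
  rk := H.rk
  cmp := H.cmp2
  Ce := by
    intro t ht c hc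
    by_cases h : t = 1
    · rw [h, mul_one] at hc
      exact H.toQGrp.main H.Bx hc
    · exact H.toQGrp.main (H.Bt H.Bx t (ht.isT h)) hc
  NY c hc := H.toHGrp.NY H.Bx hc
  twin := H.twin

/-- The hypotheses for `x ∉ S`. -/
structure POut (O : G → Subgroup G) (S L : Subgroup G) (B : G → Prop) (x : G) : Prop extends PIn O L B x where
  SN : S.Normal
  simS : IsSimpleGroup S
  xS : x ∉ S
  LS : L ≤ S
  tS : ∀ t, IsT L x t → t ∈ S

namespace POut

variable {O : G → Subgroup G} {S L : Subgroup G} {B : G → Prop} {x : G} (H : POut O S L B x)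
include H

theorem sgn [Finite G] (f : G →* ℤˣ) (s : G) (hs : s ∈ S) : f s = 1 := by
  obtain ⟨X, hX, F⟩ := H.facts H.Bx
  obtain ⟨i, hii, hi1, -⟩ := F.exs
  obtain ⟨a, b, -, -, hab⟩ := F.cmt i hii hi1
  rcases H.simS.eq_bot_or_eq_top_of_normal (f.comp S.subtype).ker inferInstance with h | h
  · exfalso
    have hinj : Function.Injective (f.comp S.subtype) := (MonoidHom.ker_eq_bot_iff _).mp h
    apply hi1
    have h1 : (⟨(i : G), H.LS i.2⟩ : S) = 1 := by
      apply hinj
      rw [map_one]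
      have h2 : (i : G) = a * b * (a : G)⁻¹ * (b : G)⁻¹ := congrArg Subtype.val hab
      show f i = 1
      rw [h2, map_mul, map_mul, map_mul, map_inv, map_inv, mul_comm (f a) (f b)]
      group
    have h3 : (i : G) = 1 := congrArg (Subtype.val : S → G) h1
    exact Subtype.ext h3
  · have h1 : (⟨s, hs⟩ : S) ∈ (f.comp S.subtype).ker := by rw [h]; exact mem_top _
    exact h1

theorem ctx [Finite G] : Ctx S L x where
  toBase := H.toPIn.base
  SN := H.SN
  xS := H.xS
  LS := H.LS
  tS := H.tS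
  sgn := H.sgn

theorem full [Finite G] : Full S L x where
  toCtx := H.ctx
  syl := sylFacts_of H.l34
  Cb _ hi hii hi1 _ hc := H.ctx.Cb hi hii hi1 hc

/-- **THEOREM E for `L₃(4)`, paired, `x ∉ S`** -/
theorem false_of [Finite G] : False := H.full.false_of H.simS

end POut

/-- `x ∈ S` or not, `G` has no sign character -/
theorem PIn.false_of [Finite G] {O : G → Subgroup G} {L : Subgroup G} {B : G → Prop} {x : G} (H : PIn O L B x)
    (hG : Parity.NoSign G) : False := H.base.false_of_noSign hG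

end Cfsg.Agent.UGT.ThEP
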