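import Cfsg.Agent.UGT.ThEL34.Sign
import Cfsg.Agent.UGT.CE.L34

/-!
# Theorem E for `L = L₃(4)`, commuting conjugates of `L` allowed: hypotheses and basic lemmas

`L ≤ G`, `K = C(L)`, `M = N(L)`, `x ∈ M` an involution acting on `L` as the unitary polarity; `t` denotes an
involution of `C_K(x)`, `s` an involution of `C_L(x)`.
-/

set_option autoImplicit false

open Subgroup

namespace Cfsg.Agent.UGT.ThEP

open Cfsg.Agent.UGT.ThE.Base (comm_of_mem L_conj L_conj' K_le_M L_le_M K_conj K_conj' IsT IsS IsT1 exists_central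
  exists_sqrt)
open Cfsg.Agent.UGT.ThEL34
open Cfsg.Agent.UGT.CE.L34 (Facts3 Facts4 YY mem_YY)

/-- All facts on `L₃(4)`. -/
structure Facts5 {D : Type*} [Group D] (x : MulAut D) : Prop extends Facts4 x where
  p2 : ∀ i : D, i * i = 1 → i ≠ 1 → IsPGroup 2 (centralizer ({i} : Set D))
  /-- one class of involutions -/
  inv1 : ∀ i j : D, i * i = 1 → i ≠ 1 → j * j = 1 → j ≠ 1 → ∃ m, m * i * m⁻¹ = j
  /-- the classes of involutions of `C_D(i) ∈ Syl₂` outside the centre have at least three elements -/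
  p6 : ∀ i s : D, i * i = 1 → i ≠ 1 → s * s = 1 → s ≠ 1 → s * i = i * s →
    (∃ p, p * i = i * p ∧ p * s ≠ s * p) →
    ∀ p, p * i = i * p → ∃ q, q * i = i * q ∧ q * s * q⁻¹ ≠ s ∧ q * s * q⁻¹ ≠ p * s * p⁻¹

variable {G : Type*} [Group G]

/-- The hypotheses: `x` in `X` or not. -/
structure Base (L : Subgroup G) (x : G) : Prop where
  xx : x * x = 1
  fct : ∃ X : MulAut L, Acts L x X ∧ Facts5 X
  four : ∃ t, IsT L x t
  rk : ∀ t, IsT L x t → ∃ u, IsT L x u ∧ u ≠ t ∧ u * t = t * u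
  /-- `L` is a component of `C(t)` -/
  cmp : ∀ t t' g, IsT L x t → IsT L x t' → g * t * g⁻¹ = t' →
    g ∈ normalizer (L : Set G) ∨ ∀ l ∈ L, g * l * g⁻¹ ∈ centralizer (L : Set G)
  /-- `C(x t) ≤ N(L)` -/
  Ce : ∀ t, IsT1 L x t → ∀ c, c * (x * t) = (x * t) * c → c ∈ normalizer (L : Set G)
  /-- Theorem H -/
  NY : ∀ c, (∀ y ∈ YY L x, c * y * c⁻¹ ∈ YY L x) → c ∈ normalizer (L : Set G)
  /-- `x` normalises no conjugate of `L` commuting with `L` -/
  twin : ∀ g, g⁻¹ * x * g ∈ normalizer (L : Set G) → (∀ l ∈ L, g * l * g⁻¹ ∈ centralizer (L : Set G)) → False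

namespace Base

variable {L : Subgroup G} {x : G} (H : Base L x)
include H

theorem facts : ∃ X : MulAut L, Acts L x X ∧ Facts X := by
  obtain ⟨X, hX, F⟩ := H.fct
  exact ⟨X, hX, F.toFacts⟩

theorem xi : x⁻¹ = x := inv_eq_of_mul_eq_one_left H.xx

theorem xM : x ∈ normalizer (L : Set G) := by
  obtain ⟨X, hX, F⟩ := H.facts
  exact hX.mem

theorem xLK {l : G} (hl : l ∈ L) : x * l ∉ centralizer (L : Set G) := by
  obtain ⟨X, hX, F⟩ := H.facts
  intro h
  have h1 := hX.mul (acts_of_mem hl)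
  have h2 := (Acts.eq_one_iff h1).mpr h
  apply F.xne (⟨l, hl⟩⁻¹ : L)
  rw [map_inv]
  exact eq_inv_of_mul_eq_one_left h2

theorem disj {l : G} (hl : l ∈ L) (hk : l ∈ centralizer (L : Set G)) : l = 1 := by
  obtain ⟨X, hX, F⟩ := H.facts
  have h1 := (acts_of_mem hl).uniq (acts_one_iff.mpr hk)
  exact congrArg Subtype.val (F.cl _ h1)

theorem uniq {a b c d : G} (ha : a ∈ L) (hb : b ∈ centralizer (L : Set G)) (hc : c ∈ L)
    (hd : d ∈ centralizer (L : Set G)) (h : a * b = c * d) : a = c ∧ b = d := by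
  have h1 : c⁻¹ * a = d * b⁻¹ := by
    calc c⁻¹ * a = c⁻¹ * (a * b) * b⁻¹ := by group
      _ = d * b⁻¹ := by rw [h]; group
  have h2 : c⁻¹ * a = 1 := H.disj (mul_mem (inv_mem hc) ha) (by rw [h1]; exact mul_mem hd (inv_mem hb))
  have h3 : a = c := (inv_mul_eq_one.mp h2).symm
  exact ⟨h3, by rw [h3] at h; exact mul_left_cancel h⟩

theorem simp (N : Subgroup G) (hN : N ≤ L) (hNn : ∀ l ∈ L, ∀ n ∈ N, l * n * l⁻¹ ∈ N) : N = ⊥ ∨ N = L := by
  obtain ⟨X, hX, F⟩ := H.facts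
  have hn : (N.subgroupOf L).Normal := ⟨fun n hn l => by
    rw [mem_subgroupOf] at hn ⊢
    exact hNn l l.2 n hn⟩
  have := F.simp
  rcases F.simp.eq_bot_or_eq_top_of_normal _ hn with h | h
  · left
    rw [eq_bot_iff]
    intro n hn
    have h1 : (⟨n, hN hn⟩ : L) ∈ N.subgroupOf L := mem_subgroupOf.mpr hn
    rw [h, mem_bot] at h1
    exact mem_bot.mpr (congrArg Subtype.val h1)
  · right
    apply le_antisymm hN
    exact subgroupOf_eq_top.mp h

theorem ne_bot : L ≠ ⊥ := by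
  obtain ⟨X, hX, F⟩ := H.facts
  have := F.simp
  intro h
  obtain ⟨l, hl⟩ := exists_ne (1 : L)
  apply hl
  have h1 : (l : G) ∈ L := l.2
  exact Subtype.ext (mem_bot.mp (h.le h1))

/-- an element of `L` -/
theorem exists_ne' : ∃ l ∈ L, l ≠ 1 := by
  obtain ⟨X, hX, F⟩ := H.facts
  have := F.simp
  obtain ⟨l, hl⟩ := exists_ne (1 : L)
  exact ⟨l, l.2, fun h => hl (Subtype.ext h)⟩

/-- `L` does not commute with itself -/
theorem self {g : G} (hg : g ∈ normalizer (L : Set G)) : ¬ ∀ l ∈ L, g * l * g⁻¹ ∈ centralizer (L : Set G) := by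
  intro h
  obtain ⟨l, hl, h1⟩ := H.exists_ne'
  apply h1
  have h2 := H.disj (L_conj hg hl) (h l hl)
  calc l = g⁻¹ * (g * l * g⁻¹) * g := by group
    _ = 1 := by rw [h2]; group

/-- `L` is normal closure of any of its elements: a version for `l ↦ g l g⁻¹ ∈ M` -/
theorem le_of_conj {P : G → Prop} (h1 : P 1) (hmul : ∀ a ∈ L, ∀ b ∈ L, P a → P b → P (a * b))
    (hinv : ∀ a ∈ L, P a → P a⁻¹) {S : Set G} (hS : ∀ s ∈ S, s ∈ L) (hne : ∃ s ∈ S, s ≠ 1)
    (h : ∀ l ∈ L, ∀ s ∈ S, P (l * s * l⁻¹)) (l : G) (hl : l ∈ L) : P l := by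
  obtain ⟨D, hD⟩ : ∃ D, D = closure {d | ∃ l ∈ L, ∃ s ∈ S, d = l * s * l⁻¹} := ⟨_, rfl⟩
  have hDL : D ≤ L := by
    rw [hD, closure_le]
    rintro d ⟨l, hl, s, hs, rfl⟩
    exact mul_mem (mul_mem hl (hS s hs)) (inv_mem hl)
  have hDn : ∀ l ∈ L, ∀ n ∈ D, l * n * l⁻¹ ∈ D := by
    intro a ha n hn
    rw [hD] at hn
    induction hn using closure_induction with
    | mem d hd =>
      obtain ⟨l, hl, s, hs, rfl⟩ := hd
      rw [hD]
      refine subset_closure ⟨a * l, mul_mem ha hl, s, hs, ?_⟩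
      group
    | one => rw [mul_one, mul_inv_cancel]; exact one_mem _
    | mul y z _ _ h1 h2 =>
      have : a * (y * z) * a⁻¹ = (a * y * a⁻¹) * (a * z * a⁻¹) := by group
      rw [this]
      exact mul_mem h1 h2
    | inv y _ h1 =>
      have : a * y⁻¹ * a⁻¹ = (a * y * a⁻¹)⁻¹ := by group
      rw [this]
      exact inv_mem h1
  have hDeq : D = L := by
    rcases H.simp D hDL hDn with h1 | h1
    · exfalso
      obtain ⟨s, hs, hs1⟩ := hne
      apply hs1
      have h2 : s ∈ D := by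
        rw [hD]; exact subset_closure ⟨1, one_mem _, s, hs, by group⟩
      rwa [h1, mem_bot] at h2
    · exact h1
  have key : ∀ d, d ∈ D → P d ∧ d ∈ L := by
    intro d hd
    rw [hD] at hd
    induction hd using closure_induction with
    | mem d hd =>
      obtain ⟨l, hl, s, hs, rfl⟩ := hd
      exact ⟨h l hl s hs, mul_mem (mul_mem hl (hS s hs)) (inv_mem hl)⟩
    | one => exact ⟨h1, one_mem _⟩
    | mul y z _ _ h1 h2 => exact ⟨hmul y h1.2 z h2.2 h1.1 h2.1, mul_mem h1.2 h2.2⟩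
    | inv y _ h1 => exact ⟨hinv y h1.2 h1.1, inv_mem h1.2⟩
  exact (key l (by rw [hDeq]; exact hl)).1

/-! ### `YY L x` -/

theorem memY {y : G} : y ∈ YY L x ↔ y ∈ L ∧ y ^ 3 = 1 ∧ y * x = x * y := by
  obtain ⟨X, hX, F⟩ := H.facts
  exact mem_YY hX F

theorem exS : ∃ s, IsS L x s := by
  obtain ⟨X, hX, F⟩ := H.fct
  obtain ⟨s, hss, hs1, hXs⟩ := F.exs
  exact ⟨s, s.2, ((hX.fix_iff s).mp hXs).symm, congrArg Subtype.val hss, fun h => hs1 (Subtype.ext h)⟩

theorem invY {s : G} (hs : IsS L x s) {y : G} (hy : y ∈ YY L x) : s * y * s⁻¹ = y⁻¹ := by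
  obtain ⟨X, hX, F⟩ := H.fct
  obtain ⟨hyL, hy3, hye⟩ := H.memY.mp hy
  have h1 := F.inv ⟨s, hs.mem⟩ ⟨y, hyL⟩ (Subtype.ext hs.sq) (fun h => hs.ne (congrArg Subtype.val h))
    ((hX.fix_iff _).mpr hs.comm.symm) (Subtype.ext hy3) ((hX.fix_iff _).mpr hye.symm)
  exact congrArg Subtype.val h1

theorem commY {y z : G} (hy : y ∈ YY L x) (hz : z ∈ YY L x) : y * z = z * y := by
  obtain ⟨s, hs⟩ := H.exS
  have h1 := H.invY hs (mul_mem hy hz)
  have h2 : s * (y * z) * s⁻¹ = y⁻¹ * z⁻¹ := by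
    calc s * (y * z) * s⁻¹ = (s * y * s⁻¹) * (s * z * s⁻¹) := by group
      _ = y⁻¹ * z⁻¹ := by rw [H.invY hs hy, H.invY hs hz]
  have h3 : (y * z)⁻¹ = (z * y)⁻¹ := by rw [← h1, h2, mul_inv_rev]
  exact inv_injective h3

theorem exY : ∃ y ∈ YY L x, y ≠ 1 := by
  obtain ⟨X, hX, F⟩ := H.fct
  obtain ⟨y, z, hy3, hXy, -, -, hy1, -⟩ := F.indep
  exact ⟨y, H.memY.mpr ⟨y.2, congrArg Subtype.val hy3, ((hX.fix_iff y).mp hXy).symm⟩,
    fun h => hy1 (Subtype.ext h)⟩

/-- `(*)`: `g L g⁻¹ ≤ M` implies `g L g⁻¹ = L` or `[g L g⁻¹, L] = 1` -/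
theorem star [Finite G] {g : G} (hg : ∀ l ∈ L, g * l * g⁻¹ ∈ normalizer (L : Set G)) :
    g ∈ normalizer (L : Set G) ∨ ∀ l ∈ L, g * l * g⁻¹ ∈ centralizer (L : Set G) := by
  obtain ⟨X, hX, F⟩ := H.facts
  obtain ⟨ψ, hψ⟩ := exists_hom (L := L) (J := ⊤) (g := g) (fun j _ => hg j j.2)
  obtain ⟨θ, hθ⟩ : ∃ θ : L →* MulAut L, ∀ l : L, Acts L (g * (l : G) * g⁻¹) (θ l) :=
    ⟨ψ.comp (topEquiv (G := L)).symm.toMonoidHom, fun l => hψ ((topEquiv (G := L)).symm l)⟩
  have hin : ∀ l, ∃ l', θ l = MulAut.conj l' := fun l => F.inn θ l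
  choose τ hτ using hin
  have hs := F.simp
  rcases hs.eq_bot_or_eq_top_of_normal θ.ker inferInstance with h | h
  · left
    have hinj : Function.Injective θ := (MonoidHom.ker_eq_bot_iff θ).mp h
    have hτinj : Function.Injective τ := fun a b hab => hinj (by rw [hτ, hτ, hab])
    have hτmul : ∀ a b, τ (a * b) = τ a * τ b := by
      intro a b
      apply F.conj_inj
      rw [← hτ, map_mul, hτ, hτ, map_mul]
    have hτsurj : Function.Surjective τ := Finite.surjective_of_injective hτinj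
    have hτinv : ∀ a, τ a⁻¹ = (τ a)⁻¹ := by
      intro a
      apply F.conj_inj
      rw [← hτ, map_inv, hτ, map_inv]
    -- `g l g⁻¹ = τ l * k`
    have hk : ∀ l : L, ∃ k ∈ centralizer (L : Set G), g * (l : G) * g⁻¹ = (τ l : G) * k := by
      intro l
      have h1 := hθ l
      rw [hτ] at h1
      exact ⟨(τ l : G)⁻¹ * (g * (l : G) * g⁻¹), (acts_coe (τ l)).inv_mul_mem h1, by group⟩
    -- `L` normalises `g L g⁻¹`
    have hLg : ∀ l : L, g⁻¹ * (l : G) * g ∈ normalizer (L : Set G) := by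
      have key : ∀ l ∈ L, ∀ y ∈ (YY L x : Set G), ∀ hl : l * y * l⁻¹ ∈ L,
          g⁻¹ * (τ ⟨l * y * l⁻¹, hl⟩ : G) * g ∈ normalizer (L : Set G) := by
        intro l hl y hy hly
        have hyL := (H.memY.mp hy).1
        have e1 : (⟨l * y * l⁻¹, hly⟩ : L) = ⟨l, hl⟩ * ⟨y, hyL⟩ * ⟨l, hl⟩⁻¹ := rfl
        rw [e1]
        -- `l⁻¹ (g⁻¹ (τ (l y l⁻¹)) g) l` centralises `YY L x`
        obtain ⟨a, ha⟩ : ∃ a : L, a = ⟨l, hl⟩ := ⟨_, rfl⟩
        obtain ⟨b, hb⟩ : ∃ b : L, b = ⟨y, hyL⟩ := ⟨_, rfl⟩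
        rw [← ha, ← hb]
        have h2 : l⁻¹ * (g⁻¹ * (τ (a * b * a⁻¹) : G) * g) * l ∈ normalizer (L : Set G) := by
          apply H.NY
          intro z hz
          have hzL := (H.memY.mp hz).1
          obtain ⟨c, hc⟩ : ∃ c : L, c = ⟨z, hzL⟩ := ⟨_, rfl⟩
          have hbc : b * c = c * b := by
            rw [hb, hc]
            exact Subtype.ext (H.commY hy hz)
          obtain ⟨k, hkK, hke⟩ := hk (a * c * a⁻¹)
          have h3 : τ (a * b * a⁻¹) * τ (a * c * a⁻¹) = τ (a * c * a⁻¹) * τ (a * b * a⁻¹) := by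
            rw [← hτmul, ← hτmul]
            congr 1
            calc a * b * a⁻¹ * (a * c * a⁻¹) = a * (b * c) * a⁻¹ := by group
              _ = a * (c * b) * a⁻¹ := by rw [hbc]
              _ = _ := by group
          have h4 : (τ (a * b * a⁻¹) : G) * (g * ((a * c * a⁻¹ : L) : G) * g⁻¹) =
              (g * ((a * c * a⁻¹ : L) : G) * g⁻¹) * (τ (a * b * a⁻¹) : G) := by
            rw [hke]
            have h5 := congrArg Subtype.val h3
            change (τ (a * b * a⁻¹) : G) * (τ (a * c * a⁻¹) : G) =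
              (τ (a * c * a⁻¹) : G) * (τ (a * b * a⁻¹) : G) at h5
            calc (τ (a * b * a⁻¹) : G) * ((τ (a * c * a⁻¹) : G) * k)
                = ((τ (a * b * a⁻¹) : G) * (τ (a * c * a⁻¹) : G)) * k := by group
              _ = (τ (a * c * a⁻¹) : G) * ((τ (a * b * a⁻¹) : G) * k) := by rw [h5]; group
              _ = (τ (a * c * a⁻¹) : G) * (k * (τ (a * b * a⁻¹) : G)) := by
                rw [comm_of_mem (τ (a * b * a⁻¹)).2 hkK]
              _ = _ := by group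
          have h6 : ((a * c * a⁻¹ : L) : G) = l * z * l⁻¹ := by rw [ha, hc]; rfl
          rw [h6] at h4
          have h7 : l⁻¹ * (g⁻¹ * (τ (a * b * a⁻¹) : G) * g) * l * z *
              (l⁻¹ * (g⁻¹ * (τ (a * b * a⁻¹) : G) * g) * l)⁻¹ = z := by
            calc l⁻¹ * (g⁻¹ * (τ (a * b * a⁻¹) : G) * g) * l * z *
                (l⁻¹ * (g⁻¹ * (τ (a * b * a⁻¹) : G) * g) * l)⁻¹
                = l⁻¹ * g⁻¹ * ((τ (a * b * a⁻¹) : G) * (g * (l * z * l⁻¹) * g⁻¹)) *
                  (τ (a * b * a⁻¹) : G)⁻¹ * g * l := by group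
              _ = l⁻¹ * g⁻¹ * ((g * (l * z * l⁻¹) * g⁻¹) * (τ (a * b * a⁻¹) : G)) *
                  (τ (a * b * a⁻¹) : G)⁻¹ * g * l := by rw [h4]
              _ = z := by group
          rw [h7]
          exact hz
        have h8 : g⁻¹ * (τ (a * b * a⁻¹) : G) * g =
            l * (l⁻¹ * (g⁻¹ * (τ (a * b * a⁻¹) : G) * g) * l) * l⁻¹ := by group
        rw [h8]
        exact mul_mem (mul_mem (L_le_M hl) h2) (inv_mem (L_le_M hl))
      have key2 : ∀ l, l ∈ L → ∀ hl : l ∈ L, g⁻¹ * (τ ⟨l, hl⟩ : G) * g ∈ normalizer (L : Set G) := by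
        intro l hl
        refine H.le_of_conj (P := fun l => ∀ hl : l ∈ L, g⁻¹ * (τ ⟨l, hl⟩ : G) * g ∈ normalizer (L : Set G))
          ?_ ?_ ?_ (S := (YY L x : Set G)) (fun s hs => (H.memY.mp hs).1) H.exY key l hl
        · intro h1
          have h2 : τ ⟨1, h1⟩ = 1 := by
            apply F.conj_inj
            rw [← hτ, map_one]
            exact map_one θ
          rw [h2]
          have h3 : g⁻¹ * ((1 : L) : G) * g = 1 := by
            rw [OneMemClass.coe_one]; group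
          rw [h3]
          exact one_mem _
        · intro a ha b hb h1 h2 hab
          have h3 : τ ⟨a * b, hab⟩ = τ ⟨a, ha⟩ * τ ⟨b, hb⟩ := hτmul ⟨a, ha⟩ ⟨b, hb⟩
          rw [h3]
          have h4 : g⁻¹ * ((τ ⟨a, ha⟩ * τ ⟨b, hb⟩ : L) : G) * g =
              (g⁻¹ * (τ ⟨a, ha⟩ : G) * g) * (g⁻¹ * (τ ⟨b, hb⟩ : G) * g) := by
            rw [Subgroup.coe_mul]; group
          rw [h4]
          exact mul_mem (h1 ha) (h2 hb)
        · intro a ha h1 hai
          have h3 : τ ⟨a⁻¹, hai⟩ = (τ ⟨a, ha⟩)⁻¹ := hτinv ⟨a, ha⟩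
          rw [h3]
          have h4 : g⁻¹ * (((τ ⟨a, ha⟩)⁻¹ : L) : G) * g = (g⁻¹ * (τ ⟨a, ha⟩ : G) * g)⁻¹ := by
            rw [Subgroup.coe_inv]; group
          rw [h4]
          exact inv_mem (h1 ha)
      intro l
      obtain ⟨a, ha⟩ := hτsurj l
      rw [← ha]
      exact key2 a a.2 a.2
    -- if `g ∉ M` then `[L, g L g⁻¹] = 1`
    by_contra hgM
    -- `L ∩ g L g⁻¹ = 1`
    obtain ⟨D, hD⟩ : ∃ D, D = L ⊓ L.comap (MulAut.conj g).toMonoidHom := ⟨_, rfl⟩
    have hDm : ∀ l, l ∈ D ↔ l ∈ L ∧ g * l * g⁻¹ ∈ L := fun l => by rw [hD]; exact Iff.rfl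
    have hD1 := H.simp D (fun l hl => ((hDm l).mp hl).1) (by
      intro l hl n hn
      obtain ⟨h1, h2⟩ := (hDm n).mp hn
      refine (hDm _).mpr ⟨mul_mem (mul_mem hl h1) (inv_mem hl), ?_⟩
      have h3 : g * (l * n * l⁻¹) * g⁻¹ = (g * l * g⁻¹) * (g * n * g⁻¹) * (g * l * g⁻¹)⁻¹ := by group
      rw [h3]
      exact L_conj (hg l hl) h2)
    rcases hD1 with hD1 | hD1
    · -- commute
      apply hs.toNontrivial.exists_pair_ne.elim
      rintro a ⟨b, hab⟩
      apply hab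
      have htriv : ∀ l : L, l = 1 := by
        intro l
        apply hinj
        rw [map_one]
        rw [(hθ l).eq_one_iff, mem_centralizer_iff]
        intro m hm
        -- the commutator of `m` and `g l g⁻¹`
        have h1 : g⁻¹ * (m * (g * (l : G) * g⁻¹) * m⁻¹ * (g * (l : G) * g⁻¹)⁻¹) * g ∈ D := by
          refine (hDm _).mpr ⟨?_, ?_⟩
          · have h2 : g⁻¹ * (m * (g * (l : G) * g⁻¹) * m⁻¹ * (g * (l : G) * g⁻¹)⁻¹) * g =
                (g⁻¹ * m * g) * l * (g⁻¹ * m * g)⁻¹ * (l : G)⁻¹ := by group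
            rw [h2]
            exact mul_mem (L_conj (hLg ⟨m, hm⟩) l.2) (inv_mem l.2)
          · have h2 : g * (g⁻¹ * (m * (g * (l : G) * g⁻¹) * m⁻¹ * (g * (l : G) * g⁻¹)⁻¹) * g) * g⁻¹ =
                m * ((g * (l : G) * g⁻¹) * m⁻¹ * (g * (l : G) * g⁻¹)⁻¹) := by group
            rw [h2]
            exact mul_mem hm (L_conj (hg l l.2) (inv_mem hm))
        rw [hD1, mem_bot] at h1
        have h3 : m * (g * (l : G) * g⁻¹) * m⁻¹ * (g * (l : G) * g⁻¹)⁻¹ = 1 := by
          calc m * (g * (l : G) * g⁻¹) * m⁻¹ * (g * (l : G) * g⁻¹)⁻¹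
              = g * (g⁻¹ * (m * (g * (l : G) * g⁻¹) * m⁻¹ * (g * (l : G) * g⁻¹)⁻¹) * g) * g⁻¹ := by group
            _ = 1 := by rw [h1]; group
        exact mul_inv_eq_iff_eq_mul.mp (mul_inv_eq_one.mp h3)
      rw [htriv a, htriv b]
    · apply hgM
      have h2 : ∀ l ∈ L, g * l * g⁻¹ ∈ L := by
        intro l hl
        rw [← hD1] at hl
        exact ((hDm l).mp hl).2
      rw [mem_normalizer_iff]
      intro y
      refine ⟨h2 y, fun hy => ?_⟩
      have h3 : Function.Surjective (fun l : L => (⟨g * l * g⁻¹, h2 l l.2⟩ : L)) := by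
        apply Finite.injective_iff_surjective.mp
        intro a b hab
        have h4 : g * (a : G) * g⁻¹ = g * (b : G) * g⁻¹ := congrArg Subtype.val hab
        exact Subtype.ext (mul_left_cancel (mul_right_cancel h4))
      obtain ⟨⟨b, hb⟩, hb2⟩ := h3 ⟨g * y * g⁻¹, hy⟩
      have h5 : g * b * g⁻¹ = g * y * g⁻¹ := congrArg Subtype.val hb2
      rw [← mul_left_cancel (mul_right_cancel h5)]
      exact hb
  · right
    intro l hl
    have h1 := hθ ⟨l, hl⟩
    have h2 : (⟨l, hl⟩ : L) ∈ θ.ker := h ▸ mem_top _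
    rw [MonoidHom.mem_ker] at h2
    rw [h2] at h1
    exact acts_one_iff.mp h1

/-! ### involutions commuting with `x` -/

/-- `x s` is conjugate to `x` under `L` -/
theorem conjS {s : G} (hs : IsS L x s) : ∃ l ∈ L, l * (x * s) * l⁻¹ = x := by
  obtain ⟨X, hX, F⟩ := H.facts
  have h1 := hX.mul (acts_of_mem hs.mem)
  have h2 : x * s * (x * s) = 1 := by
    calc x * s * (x * s) = x * (s * x) * s := by group
      _ = (x * x) * (s * s) := by rw [hs.comm]; group
      _ = 1 := by rw [H.xx, hs.sq, one_mul]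
  obtain ⟨m, hm⟩ := F.xconj _ (h1.sq h2)
  refine ⟨m, m.2, ?_⟩
  have h3 := ((acts_coe m).mul h1).mul (acts_coe m).inv
  rw [hm] at h3
  have h4 := h3.mul_inv_mem hX
  have h5 : (m : G) * (x * s) * (m : G)⁻¹ * x⁻¹ = (m : G) * (x * (s * (m : G)⁻¹) * x⁻¹) := by group
  have h6 := H.disj (l := (m : G) * (x * s) * (m : G)⁻¹ * x⁻¹) (by
    rw [h5]
    exact mul_mem m.2 (L_conj H.xM (mul_mem hs.mem (inv_mem m.2)))) h4
  exact mul_inv_eq_one.mp h6

/-- the involutions commuting with `x` acting not wildly -/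
theorem cls {X : MulAut L} (hX : Acts L x X) (F : Facts X) {e : G} (he : e * x = x * e) (hee : e * e = 1)
    (h1 : e ≠ 1) {b : MulAut L} (hb : Acts L e b) (hw : ¬ Wild X b) :
    IsT L x e ∨ (∃ t, IsT1 L x t ∧ e = x * t) ∨
      (∃ s, IsS L x s ∧ ∃ t, IsT1 L x t ∧ e = s * t) ∨
        ∃ s, IsS L x s ∧ ∃ t, IsT1 L x t ∧ e = x * s * t := by
  obtain ⟨s, hss, hxs, hs⟩ := (F.cls (hb.sq hee) (hb.comm hX he)).resolve_right hw
  have hxs' : x * (s : G) = s * x := (hX.fix_iff s).mp hxs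
  have hsi : (s : G)⁻¹ = s := inv_eq_of_mul_eq_one_left (congrArg Subtype.val hss)
  have hss' : (s : G) * s = 1 := congrArg Subtype.val hss
  by_cases hs1 : s = 1
  · rw [hs1, map_one, mul_one] at hs
    rcases hs with hs | hs
    · exact Or.inl ⟨(hb.eq_one_iff).mp hs, he, hee, h1⟩
    · right; left
      refine ⟨x * e, ⟨?_, ?_, ?_⟩, ?_⟩
      · rw [hs] at hb
        have := hX.inv_mul_mem hb
        rwa [H.xi] at this
      · calc x * e * x = x * (e * x) := by group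
          _ = x * (x * e) := by rw [he]
      · calc x * e * (x * e) = x * (e * x) * e := by group
          _ = (x * x) * (e * e) := by rw [he]; group
          _ = 1 := by rw [H.xx, hee, one_mul]
      · rw [← mul_assoc, H.xx, one_mul]
  · have hS : IsS L x s := ⟨s.2, hxs'.symm, hss', fun h => hs1 (Subtype.ext h)⟩
    rcases hs with hs | hs
    · right; right; left
      rw [hs] at hb
      have h2 : e * (s : G) = s * e := (hb.fix_iff s).mp (by
        rw [MulAut.conj_apply, mul_inv_cancel_right])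
      refine ⟨s, hS, s * e, ⟨?_, ?_, ?_⟩, ?_⟩
      · have := (acts_coe s).inv_mul_mem hb
        rwa [hsi] at this
      · calc (s : G) * e * x = s * (e * x) := by group
          _ = (s * x) * e := by rw [he]; group
          _ = x * (s * e) := by rw [← hxs']; group
      · calc (s : G) * e * (s * e) = s * (e * s) * e := by group
          _ = (s * s) * (e * e) := by rw [h2]; group
          _ = 1 := by rw [hss', hee, one_mul]
      · rw [← mul_assoc, hss', one_mul]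
    · right; right; right
      rw [hs] at hb
      have hXs := (F.comm_conj_iff X s).mpr hxs
      have h2 : e * (s : G) = s * e := (hb.fix_iff s).mp (by
        rw [MulAut.mul_apply, MulAut.conj_apply, mul_inv_cancel_right, hxs])
      refine ⟨s, hS, s * x * e, ⟨?_, ?_, ?_⟩, ?_⟩
      · have h3 := (hX.mul (acts_coe s)).inv_mul_mem hb
        rwa [mul_inv_rev, hsi, H.xi] at h3
      · calc (s : G) * x * e * x = s * x * (e * x) := by group
          _ = s * (x * x) * e := by rw [he]; group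
          _ = (s : G) * e := by rw [H.xx, mul_one]
          _ = (x * x) * (s * e) := by rw [H.xx, one_mul]
          _ = x * (x * s) * e := by group
          _ = x * (s * x * e) := by rw [hxs']; group
      · calc (s : G) * x * e * (s * x * e) = s * x * (e * s) * x * e := by group
          _ = s * (x * s) * (e * x) * e := by rw [h2]; group
          _ = (s * s) * (x * x) * (e * e) := by rw [hxs', he]; group
          _ = 1 := by rw [hss', H.xx, hee]; group
      · calc e = (x * x) * (s * s) * e := by rw [H.xx, hss']; group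
          _ = x * (x * s) * s * e := by group
          _ = x * (s * x) * (s * e) := by rw [hxs']; group
          _ = x * s * (x * s) * e := by group
          _ = x * s * (s * x * e) := by rw [hxs']; group

theorem conjST {s t : G} (hs : IsS L x s) (ht : IsT1 L x t) :
    ∃ l ∈ L, l * (x * s * t) * l⁻¹ = x * t := by
  obtain ⟨l, hl, h⟩ := H.conjS hs
  refine ⟨l, hl, ?_⟩
  have h1 := comm_of_mem (inv_mem hl) ht.mem
  calc l * (x * s * t) * l⁻¹ = l * (x * s) * (t * l⁻¹) := by group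
    _ = l * (x * s) * l⁻¹ * t := by rw [← h1]; group
    _ = x * t := by rw [h]

theorem Cxst {s t : G} (hs : IsS L x s) (ht : IsT1 L x t) {c : G}
    (hc : c * (x * s * t) = (x * s * t) * c) : c ∈ normalizer (L : Set G) := by
  obtain ⟨l, hl, h⟩ := H.conjST hs ht
  have h1 : (l * c * l⁻¹) * (x * t) = (x * t) * (l * c * l⁻¹) := by
    rw [← h]
    calc (l * c * l⁻¹) * (l * (x * s * t) * l⁻¹) = l * (c * (x * s * t)) * l⁻¹ := by group
      _ = l * ((x * s * t) * c) * l⁻¹ := by rw [hc]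
      _ = _ := by group
  have h2 := H.Ce t ht _ h1
  have h3 : c = l⁻¹ * (l * c * l⁻¹) * l := by group
  rw [h3]
  exact mul_mem (mul_mem (inv_mem (L_le_M hl)) h2) (L_le_M hl)

theorem one_isT1 : IsT1 L x 1 := ⟨one_mem _, by rw [one_mul, mul_one], one_mul 1⟩

theorem Cx {c : G} (hc : c * x = x * c) : c ∈ normalizer (L : Set G) :=
  H.Ce 1 H.one_isT1 c (by rw [mul_one]; exact hc)

theorem not_xs {s : G} (hs : s ∈ L) {t : G} (ht : t ∈ centralizer (L : Set G)) :
    x * s * t ∉ centralizer (L : Set G) := fun h => H.xLK hs (by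
  have : x * s = x * s * t * t⁻¹ := by group
  rw [this]
  exact mul_mem h (inv_mem ht))

/-- commuting involutions of `C_L(x)` are equal -/
theorem commS {s s' : G} (hs : IsS L x s) (hs' : IsS L x s') (h : s * s' = s' * s) : s = s' := by
  obtain ⟨X, hX, F⟩ := H.facts
  have h1 := F.comm ⟨s, hs.mem⟩ ⟨s', hs'.mem⟩ (Subtype.ext hs.sq) (Subtype.ext hs'.sq)
    (fun h => hs.ne (congrArg Subtype.val h)) (fun h => hs'.ne (congrArg Subtype.val h))
    ((hX.fix_iff _).mpr hs.comm.symm) ((hX.fix_iff _).mpr hs'.comm.symm) (Subtype.ext h)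
  exact congrArg Subtype.val h1

end Base

end Cfsg.Agent.UGT.ThEP
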