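import Cfsg.Agent.UGT.ThEP.Base
import Cfsg.Agent.UGT.ThEP.Syl

/-!
# Theorem E for `L = L₃(4)`, commuting conjugates of `L` allowed: no adjacency

`Sim L g` : `g L g⁻¹ = L` or `[g L g⁻¹, L] = 1`. `NA.na` : if an involution of `g L g⁻¹` normalises `L`, then `Sim L g`.
-/

set_option autoImplicit false

open Subgroup

namespace Cfsg.Agent.UGT.ThEP

open Cfsg.Agent.UGT.ThE.Base (comm_of_mem L_conj L_conj' K_le_M L_le_M K_conj K_conj' IsT IsS IsT1)
open Cfsg.Agent.UGT.ThEL34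
open Cfsg.Agent.UGT.CE.L34 (Facts3 Facts4 YY mem_YY)

variable {G : Type*} [Group G]

/-- `g L g⁻¹` is equal to `L` or commutes with `L` -/
def Sim (L : Subgroup G) (g : G) : Prop :=
  g ∈ normalizer (L : Set G) ∨ ∀ l ∈ L, g * l * g⁻¹ ∈ centralizer (L : Set G)

variable {L : Subgroup G}

theorem comm_inv {g : G} (h : ∀ l ∈ L, g * l * g⁻¹ ∈ centralizer (L : Set G)) :
    ∀ l ∈ L, g⁻¹ * l * g ∈ centralizer (L : Set G) := by
  intro l hl
  rw [mem_centralizer_iff]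
  intro m hm
  have h1 := comm_of_mem hl (h m hm)
  calc m * (g⁻¹ * l * g) = g⁻¹ * ((g * m * g⁻¹) * l) * g := by group
    _ = g⁻¹ * (l * (g * m * g⁻¹)) * g := by rw [← h1]
    _ = g⁻¹ * l * g * m := by group

theorem Sim.inv {g : G} (h : Sim L g) : Sim L g⁻¹ := by
  rcases h with h | h
  · exact Or.inl (inv_mem h)
  · right
    intro l hl
    rw [inv_inv]
    exact comm_inv h l hl

theorem Sim.of_inv {g : G} (h : Sim L g⁻¹) : Sim L g := by
  have := h.inv
  rwa [inv_inv] at this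

theorem Sim.mul_left {m g : G} (hm : m ∈ normalizer (L : Set G)) (h : Sim L g) : Sim L (m * g) := by
  rcases h with h | h
  · exact Or.inl (mul_mem hm h)
  · right
    intro l hl
    have h1 : m * g * l * (m * g)⁻¹ = m * (g * l * g⁻¹) * m⁻¹ := by group
    rw [h1]
    exact K_conj hm (h l hl)

theorem Sim.of_mul_left {m g : G} (hm : m ∈ normalizer (L : Set G)) (h : Sim L (m * g)) : Sim L g := by
  have := h.mul_left (inv_mem hm)
  rwa [inv_mul_cancel_left] at this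

theorem Sim.mul_right {m g : G} (hm : m ∈ normalizer (L : Set G)) (h : Sim L g) : Sim L (g * m) := by
  apply Sim.of_inv
  rw [mul_inv_rev]
  exact h.inv.mul_left (inv_mem hm)

theorem Sim.of_mul_right {m g : G} (hm : m ∈ normalizer (L : Set G)) (h : Sim L (g * m)) : Sim L g := by
  have := h.mul_right (inv_mem hm)
  rwa [mul_inv_cancel_right] at this

/-- Hypotheses: `C(i) ≤ N(L)` for the involutions `i` of `L`. -/
structure NA (L : Subgroup G) (x : G) : Prop extends Base L x where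
  syl : SylFacts L
  Cb : ∀ i ∈ L, i * i = 1 → i ≠ 1 → ∀ c, c * i = i * c → c ∈ normalizer (L : Set G)

namespace NA

variable {x : G} (H : NA L x)
include H

theorem sim_of_le [Finite G] {g : G} (h : ∀ l ∈ L, g * l * g⁻¹ ∈ normalizer (L : Set G)) : Sim L g :=
  H.toBase.star h

/-- `g⁻¹ l g ∈ N(L)` if `l` commutes with the involution `g i g⁻¹` of `g L g⁻¹` -/
theorem conj_cb {g i l : G} (hi : i ∈ L) (hii : i * i = 1) (hi1 : i ≠ 1)
    (h : l * (g * i * g⁻¹) = (g * i * g⁻¹) * l) : g⁻¹ * l * g ∈ normalizer (L : Set G) := by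
  apply H.Cb i hi hii hi1
  calc g⁻¹ * l * g * i = g⁻¹ * (l * (g * i * g⁻¹)) * g := by group
    _ = g⁻¹ * ((g * i * g⁻¹) * l) * g := by rw [h]
    _ = i * (g⁻¹ * l * g) := by group

omit H in
theorem comm_conj {g i l : G} (h : l * (g * i * g⁻¹) = (g * i * g⁻¹) * l) : (g⁻¹ * l * g) * i = i * (g⁻¹ * l * g) := by
  calc g⁻¹ * l * g * i = g⁻¹ * (l * (g * i * g⁻¹)) * g := by group
    _ = g⁻¹ * ((g * i * g⁻¹) * l) * g := by rw [h]
    _ = i * (g⁻¹ * l * g) := by group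

/-- elements of order 3 commute with no involution of `L` -/
theorem no3 {l i : L} (hii : i * i = 1) (hi1 : i ≠ 1) (hl : l ^ 3 = 1) (h : l * i = i * l) : l = 1 := by
  have h1 := H.syl.four i l hii hi1 h
  calc l = l ^ 3 * l := by rw [hl, one_mul]
    _ = (l * l) * (l * l) := by rw [pow_three', mul_assoc (l * l)]
    _ = 1 := h1

/-- case 1 -/
theorem na_one [Finite G] {g i : G} (hi : i ∈ L) (hii : i * i = 1) (hi1 : i ≠ 1)
    (h : g * i * g⁻¹ ∈ centralizer (L : Set G)) : Sim L g := by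
  apply Sim.of_inv
  apply H.sim_of_le
  intro l hl
  rw [inv_inv]
  exact H.conj_cb hi hii hi1 (comm_of_mem hl h)

/-- case 2 -/
theorem na_wild [Finite G] {X : MulAut L} (F : Facts X) {g i : G} (hi : i ∈ L) (hii : i * i = 1) (hi1 : i ≠ 1)
    {a : MulAut L} (ha : Acts L (g * i * g⁻¹) a) (hw : Wild X a) : Sim L g := by
  have hcom : ∀ j : L, a j = j → (j : G) * (g * i * g⁻¹) = (g * i * g⁻¹) * j := fun j hj =>
    ((ha.fix_iff j).mp hj).symm
  obtain ⟨ψ, hψ⟩ := exists_hom (L := L) (J := fx a) (g := g⁻¹) (fun j hj => by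
    rw [inv_inv]
    exact H.conj_cb hi hii hi1 (hcom j hj))
  have hi1' : (⟨i, hi⟩ : L) ≠ 1 := fun h => hi1 (congrArg Subtype.val h)
  have h1 : ∀ j, ψ j = 1 := fun j => F.hom_trivial hw (F.sols ⟨i, hi⟩ (Subtype.ext hii) hi1') ψ (fun j => by
    rw [mem_centralizer_iff]
    rintro _ rfl
    have h2 := hψ j
    rw [inv_inv] at h2
    exact ((acts_of_mem hi).comm h2 (comm_conj (hcom j j.2)).symm)) j
  obtain ⟨j, hj⟩ := exists_prime_orderOf_dvd_card' (G := fx a) 2 (F.weven a hw)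
  have hjj : (j : L) * j = 1 := by
    have h2 : j * j = 1 := by rw [← pow_two, ← hj, pow_orderOf_eq_one]
    exact congrArg Subtype.val h2
  have hj1 : (j : L) ≠ 1 := by
    intro h2
    have h3 : j = 1 := Subtype.ext h2
    rw [h3, orderOf_one] at hj
    exact absurd hj (by norm_num)
  have hK : g⁻¹ * ((j : L) : G) * g ∈ centralizer (L : Set G) := by
    have h2 := hψ j
    rw [inv_inv, h1 j] at h2
    exact acts_one_iff.mp h2
  apply H.sim_of_le
  intro l hl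
  apply H.Cb ((j : L) : G) (j : L).2 (congrArg Subtype.val hjj) (fun h => hj1 (Subtype.ext h))
  have h2 := comm_of_mem hl hK
  calc g * l * g⁻¹ * ((j : L) : G) = g * (l * (g⁻¹ * ((j : L) : G) * g)) * g⁻¹ := by group
    _ = g * ((g⁻¹ * ((j : L) : G) * g) * l) * g⁻¹ := by rw [h2]
    _ = ((j : L) : G) * (g * l * g⁻¹) := by group

/-- case 3, `z` acts as `x` -/
theorem na_pol [Finite G] {X : MulAut L} (hX : Acts L x X) (F : Facts X) {g i : G} (hi : i ∈ L) (hii : i * i = 1)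
    (hi1 : i ≠ 1) (ha : Acts L (g * i * g⁻¹) X) : Sim L g := by
  have hcom : ∀ j : L, X j = j → (j : G) * (g * i * g⁻¹) = (g * i * g⁻¹) * j := fun j hj =>
    ((ha.fix_iff j).mp hj).symm
  have hN : ∀ j : L, X j = j → g⁻¹ * (j : G) * g ∈ normalizer (L : Set G) := fun j hj =>
    H.conj_cb hi hii hi1 (hcom j hj)
  have hi1' : (⟨i, hi⟩ : L) ≠ 1 := fun h => hi1 (congrArg Subtype.val h)
  have hii' : (⟨i, hi⟩ : L) * ⟨i, hi⟩ = 1 := Subtype.ext hii
  obtain ⟨ψ, hψ⟩ := exists_hom (L := L) (J := fx X) (g := g⁻¹) (fun j hj => by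
    rw [inv_inv]
    exact hN j hj)
  have hψ' : ∀ j : fx X, Acts L (g⁻¹ * ((j : L) : G) * g) (ψ j) := fun j => by
    have h2 := hψ j
    rwa [inv_inv] at h2
  have hci : ∀ j : fx X, ψ j * MulAut.conj ⟨i, hi⟩ = MulAut.conj ⟨i, hi⟩ * ψ j := fun j =>
    ((hψ' j).comm (acts_of_mem hi) (comm_conj (hcom j j.2)))
  -- inner images of elements of order 3 are trivial
  have hinn : ∀ j : fx X, j ^ 3 = 1 → ∀ l, ψ j = MulAut.conj l → ψ j = 1 := by
    intro j hj l hl
    have h1 : l ^ 3 = 1 := by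
      apply F.cl
      rw [map_pow, ← hl, ← map_pow, hj, map_one]
    have h2 : l * ⟨i, hi⟩ = ⟨i, hi⟩ * l := by
      rw [← F.conj_comm_iff, ← hl]
      exact hci j
    rw [hl, H.no3 hii' hi1' h1 h2, map_one]
  -- a nontrivial element of `Y` with trivial image
  obtain ⟨y0, hy3, hy1, hyψ⟩ : ∃ y : fx X, y ^ 3 = 1 ∧ y ≠ 1 ∧ ψ y = 1 := by
    obtain ⟨y, z, hy3, hXy, hz3, hXz, hy1, hz1, hyz, hyz'⟩ := F.indep
    obtain ⟨y', hy'⟩ : ∃ y' : fx X, (y' : L) = y := ⟨⟨y, hXy⟩, rfl⟩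
    obtain ⟨z', hz'⟩ : ∃ z' : fx X, (z' : L) = z := ⟨⟨z, hXz⟩, rfl⟩
    have hy3' : y' ^ 3 = 1 := Subtype.ext (by
      show (y' : L) ^ 3 = 1
      rw [hy', hy3])
    have hz3' : z' ^ 3 = 1 := Subtype.ext (by
      show (z' : L) ^ 3 = 1
      rw [hz', hz3])
    have hy1' : y' ≠ 1 := fun h => hy1 (by rw [← hy', h]; rfl)
    have hz1' : z' ≠ 1 := fun h => hz1 (by rw [← hz', h]; rfl)
    rcases F.out3 (ψ y') (ψ z') (by rw [← map_pow, hy3', map_one]) (by rw [← map_pow, hz3', map_one]) with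
      ⟨l, hl⟩ | ⟨l, hl⟩ | ⟨l, hl⟩ | ⟨l, hl⟩
    · exact ⟨z', hz3', hz1', hinn z' hz3' l hl⟩
    · exact ⟨y', hy3', hy1', hinn y' hy3' l hl⟩
    · have h3 : (z'⁻¹ * y') ^ 3 = 1 := Subtype.ext (by
        show ((z' : L)⁻¹ * y') ^ 3 = 1
        rw [hy', hz']
        exact F.three _ _ (by rw [inv_pow, hz3, inv_one]) (by rw [map_inv, hXz]) hy3 hXy)
      refine ⟨z'⁻¹ * y', h3, ?_, hinn _ h3 l ?_⟩
      · intro h
        apply hyz
        have h4 : y' = z' := (inv_mul_eq_one.mp h).symm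
        rw [← hy', ← hz', h4]
      · rw [map_mul, map_inv, hl, inv_mul_cancel_left]
    · have h3 : (z' * y') ^ 3 = 1 := Subtype.ext (by
        show ((z' : L) * y') ^ 3 = 1
        rw [hy', hz']
        exact F.three _ _ hz3 hXz hy3 hXy)
      refine ⟨z' * y', h3, ?_, hinn _ h3 l ?_⟩
      · intro h
        apply hyz'
        have h4 : y' = z'⁻¹ := eq_inv_of_mul_eq_one_right h
        rw [← hy', ← hz', h4]
        rfl
      · rw [map_mul, hl, mul_inv_cancel_left]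
  -- all of `Y` acts trivially
  have hY : ∀ z : L, z ^ 3 = 1 → X z = z → g⁻¹ * (z : G) * g ∈ centralizer (L : Set G) := by
    intro z hz3 hXz
    have h1 := F.irr (y0 : L) z (congrArg Subtype.val hy3) (fun h => hy1 (Subtype.ext h)) y0.2 hz3 hXz
    obtain ⟨Q, hQ⟩ : ∃ Q : Subgroup L, ∀ w : L, w ∈ Q ↔ g⁻¹ * (w : G) * g ∈ centralizer (L : Set G) := by
      refine ⟨((centralizer (L : Set G)).comap (MulAut.conj g⁻¹).toMonoidHom).comap L.subtype, fun w => ?_⟩
      rw [mem_comap, mem_comap]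
      change g⁻¹ * (w : G) * g⁻¹⁻¹ ∈ _ ↔ _
      rw [inv_inv]
    have h2 : closure {w : L | ∃ r, X r = r ∧ w = r * (y0 : L) * r⁻¹} ≤ Q := by
      rw [closure_le]
      rintro w ⟨r, hr, rfl⟩
      rw [SetLike.mem_coe, hQ]
      have h3 : g⁻¹ * ((r * (y0 : L) * r⁻¹ : L) : G) * g =
          (g⁻¹ * (r : G) * g) * (g⁻¹ * ((y0 : L) : G) * g) * (g⁻¹ * (r : G) * g)⁻¹ := by
        have : ((r * (y0 : L) * r⁻¹ : L) : G) = (r : G) * ((y0 : L) : G) * (r : G)⁻¹ := rfl
        rw [this]; group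
      rw [h3]
      apply K_conj (hN r hr)
      have h4 := hψ' y0
      rw [hyψ] at h4
      exact acts_one_iff.mp h4
    exact (hQ z).mp (h2 h1)
  apply H.sim_of_le
  intro l hl
  apply H.NY
  intro y hy
  obtain ⟨hyL, hy3, hyx⟩ := (mem_YY hX F).mp hy
  have h1 := hY ⟨y, hyL⟩ (Subtype.ext hy3) ((hX.fix_iff _).mpr hyx.symm)
  have h2 := comm_of_mem hl h1
  have h3 : g * l * g⁻¹ * y * (g * l * g⁻¹)⁻¹ = y := by
    calc g * l * g⁻¹ * y * (g * l * g⁻¹)⁻¹ = g * (l * (g⁻¹ * y * g)) * l⁻¹ * g⁻¹ := by group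
      _ = g * ((g⁻¹ * y * g) * l) * l⁻¹ * g⁻¹ := by rw [h2]
      _ = y := by group
  rw [h3]
  exact hy

/-- (8), the noninner cases -/
theorem na_or [Finite G] {g i : G} (hi : i ∈ L) (hii : i * i = 1) (hi1 : i ≠ 1)
    (hz : g * i * g⁻¹ ∈ normalizer (L : Set G)) :
    Sim L g ∨ ∃ s : L, s * s = 1 ∧ s ≠ 1 ∧ Acts L (g * i * g⁻¹) (MulAut.conj s) := by
  obtain ⟨X, hX, F5⟩ := H.fct
  have F : Facts X := F5.toFacts
  obtain ⟨a, ha⟩ := exists_acts hz
  have hzz : g * i * g⁻¹ * (g * i * g⁻¹) = 1 := by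
    calc g * i * g⁻¹ * (g * i * g⁻¹) = g * (i * i) * g⁻¹ := by group
      _ = 1 := by rw [hii]; group
  have haa := ha.sq hzz
  rcases tri X haa with ⟨l, hl⟩ | ⟨l, hl⟩ | hw
  · by_cases h1 : l = 1
    · left
      rw [hl, h1, map_one] at ha
      exact H.na_one hi hii hi1 (acts_one_iff.mp ha)
    · right
      rw [hl] at haa ha
      exact ⟨l, F.sq_of_conj haa, h1, ha⟩
  · left
    rw [hl] at haa ha
    obtain ⟨m, hm⟩ := F.xconj l haa
    have h1 : Acts L (((m : G) * g) * i * ((m : G) * g)⁻¹) X := by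
      have h2 := ((acts_coe m).mul ha).mul (acts_coe m).inv
      rw [hm] at h2
      have h3 : (m : G) * g * i * ((m : G) * g)⁻¹ = (m : G) * (g * i * g⁻¹) * (m : G)⁻¹ := by group
      rw [h3]
      exact h2
    exact (H.na_pol hX F hi hii hi1 h1).of_mul_left (L_le_M m.2)
  · left
    exact H.na_wild F hi hii hi1 ha hw

/-- **(8)**: an involution of `g L g⁻¹` normalising `L` -/
theorem na [Finite G] {g i : G} (hi : i ∈ L) (hii : i * i = 1) (hi1 : i ≠ 1)
    (hz : g * i * g⁻¹ ∈ normalizer (L : Set G)) : Sim L g := by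
  by_contra hns
  obtain ⟨X, hX, F5⟩ := H.fct
  have F : Facts X := F5.toFacts
  obtain ⟨s, hss, hs1, hs⟩ := (H.na_or hi hii hi1 hz).resolve_left hns
  have hi1' : (⟨i, hi⟩ : L) ≠ 1 := fun h => hi1 (congrArg Subtype.val h)
  have hii' : (⟨i, hi⟩ : L) * ⟨i, hi⟩ = 1 := Subtype.ext hii
  -- `P = C_L(s)`
  obtain ⟨P, hP⟩ : ∃ P : Subgroup L, ∀ p, p ∈ P ↔ p * s = s * p :=
    ⟨centralizer ({s} : Set L), fun p => mem_centralizer_singleton_iff⟩
  have hcom : ∀ p : L, p ∈ P → (p : G) * (g * i * g⁻¹) = (g * i * g⁻¹) * p := by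
    intro p hp
    refine ((hs.fix_iff p).mp ?_).symm
    rw [MulAut.conj_apply, ← (hP p).mp hp, mul_inv_cancel_right]
  obtain ⟨ψ, hψ⟩ := exists_hom (L := L) (J := P) (g := g⁻¹) (fun j hj => by
    rw [inv_inv]
    exact H.conj_cb hi hii hi1 (hcom j hj))
  have hψ' : ∀ j : P, Acts L (g⁻¹ * ((j : L) : G) * g) (ψ j) := fun j => by
    have h2 := hψ j
    rwa [inv_inv] at h2
  -- the involutions of `P` act as inner involutions
  have hinv : ∀ p : P, p * p = 1 → p ≠ 1 → ∃ s' : L, s' * s' = 1 ∧ s' ≠ 1 ∧ ψ p = MulAut.conj s' := by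
    intro p hpp hp1
    have h1 := H.na_or (g := g⁻¹) (i := ((p : L) : G)) (p : L).2 (congrArg (fun w : P => ((w : L) : G)) hpp)
      (fun h => hp1 (Subtype.ext (Subtype.ext h))) (by rw [inv_inv]; exact (hψ' p).mem)
    rcases h1 with h1 | ⟨s', h2, h3, h4⟩
    · exact absurd h1.of_inv hns
    · rw [inv_inv] at h4
      exact ⟨s', h2, h3, (hψ' p).uniq h4⟩
  -- all elements of `P` act as inner automorphisms
  have hall : ∀ p : P, ∃ l : L, ψ p = MulAut.conj l := by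
    intro p
    obtain ⟨Q, hQ⟩ : ∃ Q : Subgroup L, ∀ w : L, w ∈ Q ↔ ∃ hw : w ∈ P, ∃ l, ψ ⟨w, hw⟩ = MulAut.conj l := by
      refine ⟨((MulAut.conj : L →* MulAut L).range.comap ψ).map P.subtype, fun w => ?_⟩
      constructor
      · rintro ⟨v, ⟨l, hl⟩, rfl⟩
        exact ⟨v.2, l, hl.symm⟩
      · rintro ⟨hw, l, hl⟩
        exact ⟨⟨w, hw⟩, ⟨l, hl.symm⟩, rfl⟩
    have h1 := H.syl.gen2 s hss hs1 Q (fun q hq hqq => by
      rw [hQ]
      refine ⟨(hP q).mpr hq, ?_⟩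
      by_cases hq1 : q = 1
      · subst hq1
        exact ⟨1, by rw [map_one]; exact map_one ψ⟩
      · obtain ⟨s', -, -, h2⟩ := hinv ⟨q, (hP q).mpr hq⟩ (Subtype.ext hqq) (fun h => hq1 (congrArg Subtype.val h))
        exact ⟨s', h2⟩) (p : L) ((hP _).mp p.2)
    obtain ⟨hw, l, hl⟩ := (hQ _).mp h1
    exact ⟨l, hl⟩
  choose θ hθ using hall
  have hθmul : ∀ p q, θ (p * q) = θ p * θ q := by
    intro p q
    apply F.conj_inj
    rw [← hθ, map_mul, hθ, hθ, map_mul]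
  have hθinj : Function.Injective θ := by
    have h1 : ∀ p, θ p = 1 → p = 1 := by
      intro p hp
      by_contra hp1
      have h2 : ψ p = 1 := by rw [hθ, hp, map_one]
      have key : ∀ q : P, ψ q = 1 → q * q = 1 → q = 1 := by
        intro q hq hqq
        by_contra hq1
        obtain ⟨s', -, h4, h5⟩ := hinv q hqq hq1
        exact h4 (F.cl _ (by rw [← h5, hq]))
      have h3 : p * p = 1 := by
        apply key
        · rw [map_mul, h2, mul_one]
        · exact Subtype.ext (H.syl.four s p hss hs1 ((hP _).mp p.2))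
      exact hp1 (key p h2 h3)
    intro p q hpq
    have h2 := h1 (p * q⁻¹) (by
      have h3 : θ (p * q⁻¹) * θ q = θ q := by
        rw [← hθmul, inv_mul_cancel_right, hpq]
      exact mul_eq_right.mp h3)
    exact mul_inv_eq_one.mp h2
  -- `θ` maps onto `C_L(i)`
  obtain ⟨P', hP'⟩ : ∃ P' : Subgroup L, ∀ p, p ∈ P' ↔ p * ⟨i, hi⟩ = ⟨i, hi⟩ * p :=
    ⟨centralizer ({⟨i, hi⟩} : Set L), fun p => mem_centralizer_singleton_iff⟩
  have hθP : ∀ p, θ p ∈ P' := by
    intro p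
    rw [hP', ← F.conj_comm_iff, ← hθ]
    exact (hψ' p).comm (acts_of_mem hi) (comm_conj (hcom p p.2))
  have hcard : Nat.card P = Nat.card P' := by
    obtain ⟨m, hm⟩ := H.syl.cls s ⟨i, hi⟩ hss hs1 hii' hi1'
    have h1 : P' = P.map (MulAut.conj m).toMonoidHom := by
      ext q
      rw [mem_map]
      constructor
      · intro hq
        refine ⟨m⁻¹ * q * m, ?_, ?_⟩
        · rw [hP]
          rw [hP', ← hm] at hq
          calc m⁻¹ * q * m * s = m⁻¹ * (q * (m * s * m⁻¹)) * m := by group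
            _ = m⁻¹ * (m * s * m⁻¹ * q) * m := by rw [hq]
            _ = s * (m⁻¹ * q * m) := by group
        · change m * (m⁻¹ * q * m) * m⁻¹ = q
          group
      · rintro ⟨w, hw, rfl⟩
        rw [hP']
        change m * w * m⁻¹ * _ = _ * (m * w * m⁻¹)
        rw [← hm]
        calc m * w * m⁻¹ * (m * s * m⁻¹) = m * (w * s) * m⁻¹ := by group
          _ = m * (s * w) * m⁻¹ := by rw [(hP w).mp hw]
          _ = m * s * m⁻¹ * (m * w * m⁻¹) := by group
    rw [h1]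
    exact (Nat.card_congr (P.equivMapOfInjective _ (MulAut.conj m).injective).toEquiv)
  have hsurj : ∀ q ∈ P', ∃ p, θ p = q := by
    have h1 : Function.Surjective (fun p : P => (⟨θ p, hθP p⟩ : P')) := by
      have hb : Function.Bijective (fun p : P => (⟨θ p, hθP p⟩ : P')) :=
        (Nat.bijective_iff_injective_and_card _).mpr
          ⟨fun p q hpq => hθinj (congrArg Subtype.val hpq), hcard⟩
      exact hb.2
    intro q hq
    obtain ⟨p, hp⟩ := h1 ⟨q, hq⟩
    exact ⟨p, congrArg Subtype.val hp⟩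
  -- `g L g⁻¹ ≤ N(L)`
  obtain ⟨Q, hQ⟩ : ∃ Q : Subgroup L, ∀ w : L, w ∈ Q ↔ g * (w : G) * g⁻¹ ∈ normalizer (L : Set G) :=
    ⟨((normalizer (L : Set G)).comap (MulAut.conj g).toMonoidHom).comap L.subtype, fun w => Iff.rfl⟩
  have hQtop := H.syl.cgen ⟨i, hi⟩ hii' hi1' Q (fun q hq hqq hq1 c hc => by
    rw [hQ]
    obtain ⟨p, hp⟩ := hsurj q ((hP' q).mpr hq)
    have hpp : p * p = 1 := by
      apply hθinj
      rw [hθmul, hp, hqq]
      apply F.conj_inj
      rw [← hθ, map_one, map_one]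
    have hp1 : p ≠ 1 := by
      rintro rfl
      apply hq1
      rw [← hp]
      apply F.conj_inj
      rw [← hθ, map_one, map_one]
    have h1 := hψ' p
    rw [hθ, hp] at h1
    have h2 : (g⁻¹ * ((p : L) : G) * g) * c = c * (g⁻¹ * ((p : L) : G) * g) := by
      refine (h1.fix_iff c).mp ?_
      rw [MulAut.conj_apply, ← hc, mul_inv_cancel_right]
    apply H.Cb ((p : L) : G) (p : L).2 (congrArg (fun w : P => ((w : L) : G)) hpp)
      (fun h => hp1 (Subtype.ext (Subtype.ext h)))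
    calc g * (c : G) * g⁻¹ * ((p : L) : G) = g * (c * (g⁻¹ * ((p : L) : G) * g)) * g⁻¹ := by group
      _ = g * ((g⁻¹ * ((p : L) : G) * g) * c) * g⁻¹ := by rw [h2]
      _ = ((p : L) : G) * (g * (c : G) * g⁻¹) := by group)
  apply hns
  apply H.sim_of_le
  intro l hl
  have h1 : (⟨l, hl⟩ : L) ∈ Q := by rw [hQtop]; exact mem_top _
  exact (hQ _).mp h1

end NA

end Cfsg.Agent.UGT.ThEP
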