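import Cfsg.Agent.UGT.ThEP.Base
import Cfsg.Agent.UGT.CE.FactsY

/-!
# Theorem E for `L = L₃(4)`, paired case: the facts on `L₃(4)`
-/

set_option autoImplicit false

open Subgroup

namespace Cfsg.Agent.UGT.ThEP

open Cfsg.Agent.UGT.Iface (IsL34)
open Cfsg.Agent.UGT.LTF.Defs (FT OddC KF34)

universe u

section

variable {D : Type*} [Group D] {ξ : MulAut D}

theorem p2_of_ft (F : FT ξ) (i : D) (hii : i * i = 1) (hi1 : i ≠ 1) : IsPGroup 2 (centralizer ({i} : Set D)) := by
  rintro ⟨l, hl⟩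
  rw [mem_centralizer_singleton_iff] at hl
  obtain ⟨n, hn⟩ := F.c2 i hii hi1 l hl
  exact ⟨n, Subtype.ext hn⟩

/-- `C(c) = C(i)` for the involutions `c` of the centre of `C(i)` -/
theorem cent_eq [Finite D] (F : FT ξ) {i c : D} (hii : i * i = 1) (hi1 : i ≠ 1) (hcc : c * c = 1) (hc1 : c ≠ 1)
    (h : ∀ p, p * i = i * p → p * c = c * p) {p : D} (hp : p * c = c * p) : p * i = i * p := by
  obtain ⟨g, hg⟩ := F.cls i c hii hi1 hcc hc1
  have h1 : centralizer ({i} : Set D) ≤ centralizer ({c} : Set D) := by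
    intro q hq
    rw [mem_centralizer_singleton_iff] at hq ⊢
    exact h q hq
  have h2 : Nat.card (centralizer ({c} : Set D)) ≤ Nat.card (centralizer ({i} : Set D)) := by
    refine Nat.card_le_card_of_injective (fun q : centralizer ({c} : Set D) =>
      (⟨g⁻¹ * q * g, by
        rw [mem_centralizer_singleton_iff]
        have hq := mem_centralizer_singleton_iff.mp q.2
        calc g⁻¹ * (q : D) * g * i = g⁻¹ * (q * (g * i * g⁻¹)) * g := by group
          _ = g⁻¹ * (g * i * g⁻¹ * q) * g := by rw [hg, hq]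
          _ = i * (g⁻¹ * q * g) := by group⟩ : centralizer ({i} : Set D))) ?_
    intro a b hab
    have h3 : g⁻¹ * (a : D) * g = g⁻¹ * b * g := congrArg Subtype.val hab
    exact Subtype.ext (mul_left_cancel (mul_right_cancel h3))
  have h3 : centralizer ({i} : Set D) = centralizer ({c} : Set D) := Subgroup.eq_of_le_of_card_ge h1 h2
  have h4 : p ∈ centralizer ({i} : Set D) := by
    rw [h3, mem_centralizer_singleton_iff]
    exact hp
  exact mem_centralizer_singleton_iff.mp h4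

theorem p6_of_ft [Finite D] (F : FT ξ) (i s : D) (hii : i * i = 1) (hi1 : i ≠ 1) (hss : s * s = 1)
    (hsi : s * i = i * s) (hs : ∃ p, p * i = i * p ∧ p * s ≠ s * p) (p : D) (hp : p * i = i * p) :
    ∃ q, q * i = i * q ∧ q * s * q⁻¹ ≠ s ∧ q * s * q⁻¹ ≠ p * s * p⁻¹ := by
  have hsinv : s⁻¹ = s := inv_eq_of_mul_eq_one_left hss
  obtain ⟨q, hq, hq1, hqi⟩ := F.four i hii hi1 s hsi (by
    obtain ⟨p, h1, h2⟩ := hs
    exact ⟨p, h1, Ne.symm h2⟩)
  rw [hsinv] at hq1 hqi
  -- `c = s q s q⁻¹`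
  obtain ⟨c, hc⟩ : ∃ c, c = s * q * s * q⁻¹ := ⟨_, rfl⟩
  rw [← hc] at hq1 hqi
  have hcen : ∀ r, r * i = i * r → r * c = c * r := by
    intro r hr
    have h1 := F.p4 i hii hi1 s q r hsi hq hr
    rw [hsinv, ← hc] at h1
    exact h1.symm
  have hci : c * i = i * c := by
    rw [hc]
    have hqi' : q⁻¹ * i = i * q⁻¹ := by
      calc q⁻¹ * i = q⁻¹ * (i * q) * q⁻¹ := by group
        _ = q⁻¹ * (q * i) * q⁻¹ := by rw [hq]
        _ = _ := by group
    calc s * q * s * q⁻¹ * i = s * q * s * (q⁻¹ * i) := by group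
      _ = s * q * (s * i) * q⁻¹ := by rw [hqi']; group
      _ = s * (q * i) * s * q⁻¹ := by rw [hsi]; group
      _ = (s * i) * q * s * q⁻¹ := by rw [hq]; group
      _ = i * (s * q * s * q⁻¹) := by rw [hsi]; group
  have hcc : c * c = 1 := F.p4' i hii hi1 c hci hcen
  have hzq : q * s * q⁻¹ = s * c := by
    rw [hc]
    calc q * s * q⁻¹ = (s * s) * q * s * q⁻¹ := by rw [hss, one_mul]
      _ = s * (s * q * s * q⁻¹) := by group
  by_cases h1 : p * s * p⁻¹ = s * c
  · -- choose another element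
    obtain ⟨r, hr, hr1, hrc⟩ := F.four c hcc hq1 s (hcen s hsi) (by
      obtain ⟨p, h1, h2⟩ := hs
      exact ⟨p, hcen p h1, Ne.symm h2⟩)
    rw [hsinv] at hr1 hrc
    have hri := cent_eq F hii hi1 hcc hq1 hcen hr
    refine ⟨r, hri, ?_, ?_⟩
    · intro h
      apply hr1
      calc s * r * s * r⁻¹ = s * (r * s * r⁻¹) := by group
        _ = 1 := by rw [h, hss]
    · rw [h1]
      intro h
      apply hrc
      calc s * r * s * r⁻¹ = s * (r * s * r⁻¹) := by group
        _ = c := by rw [h, ← mul_assoc, hss, one_mul]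
  · refine ⟨q, hq, ?_, ?_⟩
    · intro h
      apply hq1
      rw [hzq] at h
      exact mul_eq_left.mp h
    · rw [hzq]
      exact Ne.symm h1

end

theorem facts5_of_y {K : Type u} [Group K] [Finite K] (hK : IsL34 K) {x : MulAut K} (hx : x * x = 1)
    {E : Subgroup (MulAut K)} (hE : OddC x E) (h1 : E ≠ ⊥) : Facts5 x := by
  have hF : FT x := FL34.KF.kf34 K hK x hx E hE h1
  exact
    { toFacts4 := CE.L34.facts4_of hK hx hE h1
      p2 := p2_of_ft hF
      inv1 := hF.cls
      p6 := fun i s hii hi1 hss _ hsi hs p hp => p6_of_ft hF i s hii hi1 hss hsi hs p hp }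

end Cfsg.Agent.UGT.ThEP
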