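import Cfsg.Agent.UGT.ThEP.Four

/-!
# Theorem E for `L = L₃(4)`, paired case: `t ^ G ∩ C(x) ≤ K`, characters
-/

set_option autoImplicit false

open Subgroup MulAction

namespace Cfsg.Agent.UGT.ThEP

open Cfsg.Agent.UGT
open Cfsg.Agent.UGT.ThE.Base (comm_of_mem L_conj L_conj' K_le_M L_le_M K_conj K_conj' IsT IsS IsT1 exists_central
  exists_sqrt)
open Cfsg.Agent.UGT.ThEL34
open Cfsg.Agent.UGT.CE.L34 (Facts3 Facts4 YY mem_YY)

variable {G : Type*} [Group G]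

/-- if the involution `x` of `C` has exactly one fixed point on `C/(C ∩ M)`, every involution `y` of `C` has a
fixed point -/
theorem exists_fixed_coset [Finite G] {C M : Subgroup G} {x y : G} (hxx : x * x = 1) (hyy : y * y = 1) (hx : x ∈ C)
    (hy : y ∈ C) (hxM : x ∈ M) (h1 : ∀ c ∈ C, c⁻¹ * x * c ∈ M → c ∈ M) : ∃ c ∈ C, c⁻¹ * y * c ∈ M := by
  have hact : ∀ z : G, z * z = 1 → ∀ hz : z ∈ C, ∃ f : Equiv.Perm (C ⧸ M.subgroupOf C), (∀ q, f (f q) = q) ∧
      ∀ c : C, f (c : C ⧸ M.subgroupOf C) = ((⟨z, hz⟩ * c : C) : C ⧸ M.subgroupOf C) := by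
    intro z hzz hz
    refine ⟨MulAction.toPerm (⟨z, hz⟩ : C), ?_, fun c => rfl⟩
    intro q
    change (⟨z, hz⟩ : C) • ((⟨z, hz⟩ : C) • q) = q
    rw [smul_smul, show (⟨z, hz⟩ : C) * ⟨z, hz⟩ = 1 from Subtype.ext hzz, one_smul]
  have hfix : ∀ (z : G) (hz : z ∈ C) (c : C), ((⟨z, hz⟩ * c : C) : C ⧸ M.subgroupOf C) =
      (c : C ⧸ M.subgroupOf C) ↔ (c : G)⁻¹ * z * c ∈ M := by
    intro z hz c
    rw [eq_comm, QuotientGroup.eq, mem_subgroupOf]
    have h2 : ((c⁻¹ * (⟨z, hz⟩ * c) : C) : G) = (c : G)⁻¹ * z * c := by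
      rw [Subgroup.coe_mul, Subgroup.coe_mul, Subgroup.coe_inv]; group
    rw [h2]
  obtain ⟨f, hff, hf⟩ := hact x hxx hx
  obtain ⟨f', hff', hf'⟩ := hact y hyy hy
  have hodd : ¬ 2 ∣ Nat.card (C ⧸ M.subgroupOf C) := by
    intro h2
    obtain ⟨q, hq1, hq⟩ := exists_fixed_ne f hff h2 (a := ((1 : C) : C ⧸ M.subgroupOf C)) (by
      rw [hf, hfix]
      simpa using hxM)
    induction q using QuotientGroup.induction_on with
    | H c =>
      rw [hf, hfix] at hq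
      apply hq1
      rw [QuotientGroup.eq, mul_one, mem_subgroupOf]
      exact inv_mem (h1 c c.2 hq)
  have h3 := card_mod_two f' hff'
  have h4 : Nat.card (Function.fixedPoints f') ≠ 0 := by
    intro h
    rw [h] at h3
    apply hodd
    omega
  have h5 : Nonempty (Function.fixedPoints f') := by
    by_contra hemp
    rw [not_nonempty_iff] at hemp
    exact h4 (Nat.card_eq_zero.mpr (Or.inl hemp))
  obtain ⟨⟨q, hq⟩⟩ := h5
  induction q using QuotientGroup.induction_on with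
  | H c =>
    have h6 : f' (c : C ⧸ M.subgroupOf C) = (c : C ⧸ M.subgroupOf C) := hq
    rw [hf', hfix] at h6
    exact ⟨c, c.2, h6⟩

namespace Base

variable {L : Subgroup G} {x : G} (H : Base L x)
include H

/-- **(5)** `t ^ G ∩ C(x) ≤ K`: the conjugate of `t` is conjugate under `M` -/
theorem tr' [Finite G] {t g : G} (ht : IsT L x t) (h : (g * t * g⁻¹) * x = x * (g * t * g⁻¹)) :
    ∃ m ∈ normalizer (L : Set G), m * t * m⁻¹ = g * t * g⁻¹ := by
  obtain ⟨y, hy⟩ : ∃ y, y = g⁻¹ * x * g := ⟨_, rfl⟩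
  have hyt : y * t = t * y := by
    rw [hy]
    calc g⁻¹ * x * g * t = g⁻¹ * (x * (g * t * g⁻¹)) * g := by group
      _ = g⁻¹ * ((g * t * g⁻¹) * x) * g := by rw [h]
      _ = t * (g⁻¹ * x * g) := by group
  have hyy : y * y = 1 := by
    rw [hy]
    calc g⁻¹ * x * g * (g⁻¹ * x * g) = g⁻¹ * (x * x) * g := by group
      _ = 1 := by rw [H.xx]; group
  obtain ⟨c, hc, hcy⟩ := exists_fixed_coset (C := centralizer ({t} : Set G)) (M := normalizer (L : Set G)) H.xx hyy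
    (mem_centralizer_singleton_iff.mpr ht.comm.symm) (mem_centralizer_singleton_iff.mpr hyt) H.xM
    (fun c _ h1 => H.fix h1)
  rw [mem_centralizer_singleton_iff] at hc
  refine ⟨g * c, H.fix ?_, ?_⟩
  · have h1 : (g * c)⁻¹ * x * (g * c) = c⁻¹ * y * c := by rw [hy]; group
    rw [h1]
    exact hcy
  · calc g * c * t * (g * c)⁻¹ = g * (c * t) * c⁻¹ * g⁻¹ := by group
      _ = g * (t * c) * c⁻¹ * g⁻¹ := by rw [hc]
      _ = g * t * g⁻¹ := by group

theorem tr [Finite G] {t g : G} (ht : IsT L x t) (h : (g * t * g⁻¹) * x = x * (g * t * g⁻¹)) :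
    g * t * g⁻¹ ∈ centralizer (L : Set G) := by
  obtain ⟨m, hm, h1⟩ := H.tr' ht h
  rw [← h1]
  exact K_conj hm ht.mem

/-- **(TR+)** -/
theorem exists_sign [Finite G] (χ : MulAut L →* ℤˣ) :
    ∃ f : G →* ℤˣ, ∀ (e : G) (b : MulAut L), e * e = 1 → e * x = x * e → Acts L e b → f e = χ b := by
  obtain ⟨M, hM⟩ : ∃ M, M = normalizer (L : Set G) := ⟨_, rfl⟩
  have hMm : ∀ {m : G}, m ∈ M → m ∈ normalizer (L : Set G) := fun h => hM ▸ h
  have hMm' : ∀ {m : G}, m ∈ normalizer (L : Set G) → m ∈ M := fun h => hM ▸ h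
  let ev : G ⧸ M → G → Prop := fun ω g => ∃ b, Acts L (ω.out⁻¹ * g * ω.out) b ∧ χ b = 1
  have hst : ∀ (ω : G ⧸ M) (g : G), g • ω = ω ↔ ω.out⁻¹ * g * ω.out ∈ M := by
    intro ω g
    have h1 : (ω.out : G ⧸ M) = ω := Quotient.out_eq' ω
    constructor
    · intro h
      have h2 : ((g * ω.out : G) : G ⧸ M) = (ω.out : G ⧸ M) := by
        calc ((g * ω.out : G) : G ⧸ M) = g • ((ω.out : G) : G ⧸ M) := rfl
          _ = g • ω := by rw [h1]
          _ = ω := h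
          _ = (ω.out : G ⧸ M) := h1.symm
      rw [eq_comm, QuotientGroup.eq] at h2
      rwa [← mul_assoc] at h2
    · intro h
      have h2 : ((ω.out : G) : G ⧸ M) = ((g * ω.out : G) : G ⧸ M) := by
        rw [QuotientGroup.eq, ← mul_assoc]
        exact h
      calc g • ω = g • ((ω.out : G) : G ⧸ M) := by rw [h1]
        _ = ((g * ω.out : G) : G ⧸ M) := rfl
        _ = ((ω.out : G) : G ⧸ M) := h2.symm
        _ = ω := h1
  have hev : ∀ (ω : G ⧸ M) (g : G) (b : MulAut L), Acts L (ω.out⁻¹ * g * ω.out) b → (ev ω g ↔ χ b = 1) := by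
    intro ω g b hb
    constructor
    · rintro ⟨c, hc, h⟩
      rwa [hb.uniq hc]
    · intro h
      exact ⟨b, hb, h⟩
  have hpar : Parity.IsParity (Ω := G ⧸ M) ev := by
    constructor
    · intro ω g h hg hh
      obtain ⟨b, hb⟩ := exists_acts (hMm ((hst ω g).mp hg))
      obtain ⟨c, hc⟩ := exists_acts (hMm ((hst ω h).mp hh))
      have h1 : ω.out⁻¹ * (g * h) * ω.out = (ω.out⁻¹ * g * ω.out) * (ω.out⁻¹ * h * ω.out) := by
        group
      have h2 : Acts L (ω.out⁻¹ * (g * h) * ω.out) (b * c) := by rw [h1]; exact hb.mul hc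
      rw [hev ω g b hb, hev ω h c hc, hev ω (g * h) _ h2, map_mul]
      exact units_mul_eq_one _ _
    · intro ω g h hh
      have h1 : (((g • ω).out : G) : G ⧸ M) = ((g * ω.out : G) : G ⧸ M) := by
        have h2 : ((g • ω).out : G ⧸ M) = g • ω := Quotient.out_eq' _
        have h3 : (ω.out : G ⧸ M) = ω := Quotient.out_eq' ω
        rw [h2]
        calc g • ω = g • ((ω.out : G) : G ⧸ M) := by rw [h3]
          _ = _ := rfl
      rw [eq_comm, QuotientGroup.eq] at h1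
      obtain ⟨m, hm⟩ : ∃ m, m = (g * ω.out)⁻¹ * (g • ω).out := ⟨_, rfl⟩
      rw [← hm] at h1
      have h4 : (g • ω).out = g * ω.out * m := by rw [hm]; group
      have h5 : (g • ω).out⁻¹ * (g * h * g⁻¹) * (g • ω).out = m⁻¹ * (ω.out⁻¹ * h * ω.out) * m := by
        rw [h4]; group
      obtain ⟨c, hc⟩ := exists_acts (hMm ((hst ω h).mp hh))
      obtain ⟨μ, hμ⟩ := exists_acts (hMm h1)
      have h6 : Acts L ((g • ω).out⁻¹ * (g * h * g⁻¹) * (g • ω).out) (μ⁻¹ * c * μ) := by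
        rw [h5]; exact (hμ.inv.mul hc).mul hμ
      rw [hev _ _ _ h6, hev ω h c hc, map_mul, map_mul, map_inv, mul_comm (χ μ)⁻¹, mul_assoc,
        inv_mul_cancel, mul_one]
  have hxM : x ∈ M := hMm' H.xM
  have huniq : ∀ ω : G ⧸ M, x • ω = ω → ω = ((1 : G) : G ⧸ M) := by
    intro ω hω
    have h1 := (hst ω x).mp hω
    have h2 : ω.out ∈ normalizer (L : Set G) := H.fix (hMm h1)
    have h3 : (ω.out : G ⧸ M) = ω := Quotient.out_eq' ω
    rw [← h3, eq_comm, QuotientGroup.eq, inv_one, one_mul]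
    exact hMm' h2
  obtain ⟨f, hf⟩ := Parity.exists_hom_fixed hpar
  refine ⟨f, fun e b hee hex hb => ?_⟩
  have hT2 : IsPGroup 2 (zpowers x) := by
    rintro ⟨z, hz⟩
    obtain ⟨n, rfl⟩ := mem_zpowers_iff.mp hz
    refine ⟨1, ?_⟩
    apply Subtype.ext
    change (x ^ n) ^ 2 ^ 1 = 1
    rw [pow_one, pow_two, ← zpow_add, ← two_mul, zpow_mul]
    have : x ^ (2 : ℤ) = 1 := by rw [zpow_two]; exact H.xx
    rw [this, one_zpow]
  have hTe : zpowers x ≤ centralizer ({e} : Set G) := by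
    rw [zpowers_le, mem_centralizer_singleton_iff]
    exact hex.symm
  rw [hf e (zpowers x) hee hT2 hTe]
  obtain ⟨ω₀, hω₀⟩ : ∃ ω₀ : G ⧸ M, ω₀ = ((1 : G) : G ⧸ M) := ⟨_, rfl⟩
  have hfix : ∀ m, m ∈ M → m • ω₀ = ω₀ := by
    intro m hm
    rw [hω₀]
    have : m • ((1 : G) : G ⧸ M) = ((m * 1 : G) : G ⧸ M) := rfl
    rw [this, eq_comm, QuotientGroup.eq, inv_one, one_mul, mul_one]
    exact hm
  have hm0 : ω₀.out ∈ M := by
    have h4 : ((ω₀.out : G) : G ⧸ M) = ((1 : G) : G ⧸ M) := by rw [← hω₀]; exact Quotient.out_eq' _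
    rw [eq_comm, QuotientGroup.eq, inv_one, one_mul] at h4
    exact h4
  have hω₀e : ev ω₀ e ↔ χ b = 1 := by
    obtain ⟨μ, hμ⟩ := exists_acts (hMm hm0)
    rw [hev ω₀ e _ ((hμ.inv.mul hb).mul hμ), map_mul, map_mul, map_inv, mul_comm (χ μ)⁻¹, mul_assoc,
        inv_mul_cancel, mul_one]
  have hall : ∀ t ∈ zpowers x, t • ω₀ = ω₀ := fun t ht => hfix t ((zpowers_le.mpr hxM) ht)
  by_cases hc : χ b = 1
  · have : IsEmpty {ω : G ⧸ M // (e • ω = ω ∧ ¬ ev ω e) ∧ ∀ t ∈ zpowers x, t • ω = ω} := by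
      refine ⟨fun ⟨ω, ⟨_, h2⟩, h3⟩ => ?_⟩
      have h4 := huniq ω (h3 x (mem_zpowers x))
      rw [← hω₀] at h4
      rw [h4] at h2
      exact h2 (hω₀e.mpr hc)
    rw [Nat.card_eq_zero.mpr (Or.inl this), pow_zero, hc]
  · have : Nat.card {ω : G ⧸ M // (e • ω = ω ∧ ¬ ev ω e) ∧ ∀ t ∈ zpowers x, t • ω = ω} = 1 := by
      rw [Nat.card_eq_one_iff_unique]
      have key : ∀ c : {ω : G ⧸ M // (e • ω = ω ∧ ¬ ev ω e) ∧ ∀ t ∈ zpowers x, t • ω = ω},
          c.1 = ω₀ := by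
        rintro ⟨ω, ⟨_, _⟩, h3⟩
        rw [hω₀]
        exact huniq ω (h3 x (mem_zpowers x))
      refine ⟨⟨fun c d => Subtype.ext ((key c).trans (key d).symm)⟩,
        ⟨⟨ω₀, ⟨hfix e (hMm' hb.mem), fun h => hc (hω₀e.mp h)⟩, hall⟩⟩⟩
    rw [this, pow_one]
    exact ((Int.units_eq_one_or (χ b)).resolve_left hc).symm

/-- **`x ∈ X`, `W = 1`** -/
theorem false_of_noSign [Finite G] (hG : Parity.NoSign G) : False := by
  obtain ⟨X, hX, F⟩ := H.facts
  obtain ⟨χ, hχ⟩ := F.chi0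
  obtain ⟨f, hf⟩ := H.exists_sign χ
  have h1 := hf x X H.xx rfl hX
  rw [hG f, hχ, MonoidHom.one_apply] at h1
  exact absurd h1 (by decide)

end Base

end Cfsg.Agent.UGT.ThEP
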