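import Cfsg.Agent.UGT.ThEP.Base

/-!
# Theorem E for `L = L₃(4)`, paired case: `x` normalises exactly one conjugate of `L`
-/

set_option autoImplicit false

open Subgroup

namespace Cfsg.Agent.UGT.ThEP

open Cfsg.Agent.UGT.ThE.Base (comm_of_mem L_conj L_conj' K_le_M L_le_M K_conj K_conj' IsT IsS IsT1 exists_central
  exists_sqrt)
open Cfsg.Agent.UGT.ThEL34
open Cfsg.Agent.UGT.CE.L34 (Facts3 Facts4 YY mem_YY)

/-- an involutory automorphism of a 2-group `P` leaving the proper subgroup `D` invariant fixes a coset `p D ≠ D` -/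
theorem fixed_coset {Γ : Type*} [Group Γ] (σ : MulAut Γ) (hσ : σ * σ = 1) (P D : Subgroup Γ) [Finite P]
    (hP : IsPGroup 2 P) (hPσ : ∀ p ∈ P, σ p ∈ P) (hDσ : ∀ d ∈ D, σ d ∈ D) (hDP : D ≤ P) (hne : ¬ P ≤ D) :
    ∃ p ∈ P, p ∉ D ∧ p⁻¹ * σ p ∈ D := by
  have hp : Fact (Nat.Prime 2) := ⟨Nat.prime_two⟩
  have hσσ : ∀ d, σ (σ d) = d := fun d => by
    rw [← MulAut.mul_apply, hσ, MulAut.one_apply]
  obtain ⟨n, hn⟩ := hP.exists_card_eq
  have hcard : 2 ∣ Nat.card (P ⧸ D.subgroupOf P) := by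
    have h1 : Nat.card (P ⧸ D.subgroupOf P) ∣ Nat.card P := (D.subgroupOf P).card_quotient_dvd_card
    rw [hn] at h1
    obtain ⟨k, -, hk⟩ := (Nat.dvd_prime_pow Nat.prime_two).mp h1
    rcases Nat.eq_zero_or_pos k with h0 | h0
    · exfalso
      apply hne
      rw [h0, pow_zero] at hk
      have h2 : D.subgroupOf P = ⊤ := by
        rw [← index_eq_one]
        exact hk
      exact subgroupOf_eq_top.mp h2
    · rw [hk]
      exact dvd_pow_self 2 (by omega)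
  have hmap : ∀ a b : P, a⁻¹ * b ∈ D.subgroupOf P →
      (⟨σ a, hPσ _ a.2⟩ : P)⁻¹ * ⟨σ b, hPσ _ b.2⟩ ∈ D.subgroupOf P := by
    intro a b hab
    rw [mem_subgroupOf] at hab ⊢
    change (σ (a : Γ))⁻¹ * σ (b : Γ) ∈ D
    rw [← map_inv, ← map_mul]
    exact hDσ _ hab
  obtain ⟨f, hf⟩ : ∃ f : (P ⧸ D.subgroupOf P) → (P ⧸ D.subgroupOf P), ∀ p : P,
      f (p : P ⧸ D.subgroupOf P) = ((⟨σ p, hPσ _ p.2⟩ : P) : P ⧸ D.subgroupOf P) :=
    ⟨Quotient.map' (fun p : P => (⟨σ p, hPσ _ p.2⟩ : P)) (fun a b hab => by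
      rw [QuotientGroup.leftRel_apply] at hab ⊢
      exact hmap a b hab), fun p => rfl⟩
  have hff : ∀ q, f (f q) = q := by
    intro q
    induction q using QuotientGroup.induction_on with
    | H p =>
      rw [hf, hf]
      congr 1
      exact Subtype.ext (hσσ p)
  let F : Equiv.Perm (P ⧸ D.subgroupOf P) := ⟨f, f, hff, hff⟩
  obtain ⟨q, hq1, hq⟩ := exists_fixed_ne F hff hcard (a := ((1 : P) : P ⧸ D.subgroupOf P)) (by
    change f _ = _
    rw [hf]
    congr 1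
    exact Subtype.ext (map_one σ))
  induction q using QuotientGroup.induction_on with
  | H p =>
    refine ⟨p, p.2, ?_, ?_⟩
    · intro h
      apply hq1
      rw [QuotientGroup.eq, mul_one]
      exact inv_mem (mem_subgroupOf.mpr h)
    · have h1 : f (p : P ⧸ D.subgroupOf P) = (p : P ⧸ D.subgroupOf P) := hq
      rw [hf, eq_comm, QuotientGroup.eq, mem_subgroupOf] at h1
      exact h1

variable {G : Type*} [Group G]

namespace Base

variable {L : Subgroup G} {x : G} (H : Base L x)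
include H

theorem no [Finite G] {g : G} (hg : g ∉ normalizer (L : Set G)) (hx : g⁻¹ * x * g ∈ normalizer (L : Set G))
    (h : ∀ l ∈ L, g * l * g⁻¹ ∈ normalizer (L : Set G)) : False := by
  rcases H.star h with h1 | h1
  · exact hg h1
  · exact H.twin g hx h1

/-- `x` inner on `g L g⁻¹` -/
theorem fix_inner [Finite G] {X : MulAut L} (hX : Acts L x X) (F : Facts X) {g : G}
    (hg : g ∉ normalizer (L : Set G)) {s₀ : L}
    (hs₀ : s₀ * s₀ = 1) (hs1 : s₀ ≠ 1) (hy : Acts L (g⁻¹ * x * g) (MulAut.conj s₀)) : False := by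
  have hxg := hy.mem
  obtain ⟨y, hyd⟩ : ∃ y, y = g⁻¹ * x * g := ⟨_, rfl⟩
  rw [← hyd] at hy
  have exg : x = g * y * g⁻¹ := by rw [hyd]; group
  have hs₀' : (s₀ : G) * s₀ = 1 := congrArg Subtype.val hs₀
  obtain ⟨a, b, ha, hb, hab⟩ := F.cmt s₀ hs₀ hs1
  have hcm : ∀ c : L, c * s₀ = s₀ * c → (g * (c : G) * g⁻¹) * x = x * (g * (c : G) * g⁻¹) := by
    intro c hc
    have h1 : y * (c : G) = c * y := (hy.fix_iff c).mp (by
      rw [MulAut.conj_apply, ← hc, mul_inv_cancel_right])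
    calc g * (c : G) * g⁻¹ * x = g * (c : G) * g⁻¹ * (g * y * g⁻¹) := by rw [← exg]
      _ = g * (c * y) * g⁻¹ := by group
      _ = g * (y * c) * g⁻¹ := by rw [h1]
      _ = (g * y * g⁻¹) * (g * (c : G) * g⁻¹) := by group
      _ = x * (g * (c : G) * g⁻¹) := by rw [← exg]
  obtain ⟨s₁, hs₁⟩ : ∃ s₁, s₁ = g * (s₀ : G) * g⁻¹ := ⟨_, rfl⟩
  obtain ⟨α, hα⟩ := exists_acts (H.Cx (hcm a ha))
  obtain ⟨β, hβ⟩ := exists_acts (H.Cx (hcm b hb))
  have hσ : Acts L s₁ (α * β * α⁻¹ * β⁻¹) := by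
    have h1 := ((hα.mul hβ).mul hα.inv).mul hβ.inv
    have h2 : s₁ = g * (a : G) * g⁻¹ * (g * (b : G) * g⁻¹) * (g * (a : G) * g⁻¹)⁻¹ *
        (g * (b : G) * g⁻¹)⁻¹ := by
      rw [hs₁, hab]
      change g * ((a : G) * b * (a : G)⁻¹ * (b : G)⁻¹) * g⁻¹ = _
      group
    rw [h2]; exact h1
  have hchi : ∀ χ : MulAut L →* ℤˣ, χ (α * β * α⁻¹ * β⁻¹) = 1 := by
    intro χ
    rw [map_mul, map_mul, map_mul, map_inv, map_inv, mul_comm (χ α), mul_assoc (χ β), mul_inv_cancel,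
      mul_one, mul_inv_cancel]
  have hs₁s : s₁ * s₁ = 1 := by
    rw [hs₁]
    calc g * (s₀ : G) * g⁻¹ * (g * (s₀ : G) * g⁻¹) = g * (s₀ * s₀) * g⁻¹ := by group
      _ = 1 := by rw [hs₀']; group
  have hs₁1 : s₁ ≠ 1 := by
    intro h
    apply hs1
    apply Subtype.ext
    calc (s₀ : G) = g⁻¹ * s₁ * g := by rw [hs₁]; group
      _ = 1 := by rw [h]; group
  have hs₁x : s₁ * x = x * s₁ := by rw [hs₁]; exact hcm s₀ rfl
  have hw : ¬ Wild X (α * β * α⁻¹ * β⁻¹) := by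
    obtain ⟨χ, -, h⟩ := F.chi1
    intro h1
    have h2 := h _ h1
    rw [hchi] at h2
    exact absurd h2 (by decide)
  obtain ⟨χ, hχ⟩ := F.chi0
  have hlx : ∀ l ∈ L, (g * l * g⁻¹) * (x * s₁) = (x * s₁) * (g * l * g⁻¹) := by
    intro l hl
    have h1 : y * s₀ ∈ centralizer (L : Set G) := by
      have h2 := hy.mul_inv_mem (acts_coe s₀)
      rwa [inv_eq_of_mul_eq_one_left hs₀'] at h2
    have h2 := comm_of_mem hl h1
    have h3 : x * s₁ = g * (y * s₀) * g⁻¹ := by rw [hs₁, exg]; group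
    rw [h3]
    calc g * l * g⁻¹ * (g * (y * s₀) * g⁻¹) = g * (l * (y * s₀)) * g⁻¹ := by group
      _ = g * (y * s₀ * l) * g⁻¹ := by rw [h2]
      _ = _ := by group
  have hnx : ∀ {t : G}, IsT1 L x t → s₁ ≠ x * t := by
    intro t ht h
    have h1 := hX.mulK ht.mem
    rw [← h] at h1
    have h2 := hchi χ
    rw [hσ.uniq h1, hχ] at h2
    exact absurd h2 (by decide)
  rcases H.cls hX F hs₁x hs₁s hs₁1 hσ hw with h1 | ⟨t₁, ht₁, h1⟩ | ⟨s, hs, t₁, ht₁, h1⟩ | ⟨s, hs, t₁, ht₁, h1⟩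
  · exact H.no hg hxg (fun l hl => H.Ce s₁ ⟨h1.mem, h1.comm, h1.sq⟩ _ (hlx l hl))
  · exact hnx ht₁ h1
  · have e1 : x * s₁ = x * s * t₁ := by rw [h1]; group
    exact H.no hg hxg (fun l hl => H.Cxst hs ht₁ (by rw [← e1]; exact hlx l hl))
  · have h2 := (hX.mul (acts_of_mem hs.mem)).mulK ht₁.mem
    rw [← h1] at h2
    have h3 := hchi χ
    rw [hσ.uniq h2, map_mul, hχ, F.chi_conj] at h3
    exact absurd h3 (by decide)

/-- `t ∈ C_K(x)` an involution in `g L g⁻¹` fixed by ...: `C_{g L g⁻¹}(t) ≤ M` -/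
theorem cent_le [Finite G] {g : G} (hxg : g⁻¹ * x * g ∈ normalizer (L : Set G))
    (hP2 : ∀ j : L, j * j = 1 → j ≠ 1 → IsPGroup 2 (centralizer ({j} : Set L)))
    {j : L} (hj : IsT L x (g * (j : G) * g⁻¹)) {p : L} (hp : p * j = j * p) :
    g * (p : G) * g⁻¹ ∈ normalizer (L : Set G) := by
  obtain ⟨y, hyd⟩ : ∃ y, y = g⁻¹ * x * g := ⟨_, rfl⟩
  rw [← hyd] at hxg
  have exg : x = g * y * g⁻¹ := by rw [hyd]; group
  have hyy : y * y = 1 := by
    rw [hyd]
    calc g⁻¹ * x * g * (g⁻¹ * x * g) = g⁻¹ * (x * x) * g := by group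
      _ = 1 := by rw [H.xx]; group
  obtain ⟨a, ha⟩ := exists_acts hxg
  have haj : a j = j := by
    rw [ha.fix_iff]
    have h1 := hj.comm
    rw [exg] at h1
    calc y * (j : G) = g⁻¹ * (g * y * g⁻¹ * (g * (j : G) * g⁻¹)) * g := by group
      _ = g⁻¹ * (g * (j : G) * g⁻¹ * (g * y * g⁻¹)) * g := by rw [h1]
      _ = j * y := by group
  have hjj : j * j = 1 := by
    apply Subtype.ext
    have h1 := hj.sq
    calc (j : G) * j = g⁻¹ * (g * (j : G) * g⁻¹ * (g * (j : G) * g⁻¹)) * g := by group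
      _ = 1 := by rw [h1]; group
  have hj1 : j ≠ 1 := by
    rintro rfl
    apply hj.ne
    rw [OneMemClass.coe_one]; group
  obtain ⟨P, hP⟩ : ∃ P, P = centralizer ({j} : Set L) := ⟨_, rfl⟩
  obtain ⟨D, hD⟩ : ∃ D, D = P ⊓ (normalizer (L : Set G)).comap ((MulAut.conj g).toMonoidHom.comp L.subtype) :=
    ⟨_, rfl⟩
  have hPm : ∀ q, q ∈ P ↔ q * j = j * q := fun q => by rw [hP, mem_centralizer_singleton_iff]
  have hDm : ∀ q, q ∈ D ↔ q * j = j * q ∧ g * (q : G) * g⁻¹ ∈ normalizer (L : Set G) := fun q => by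
    rw [hD, mem_inf, hPm]; exact Iff.rfl
  have hcon : ∀ q : L, g * (a q : G) * g⁻¹ = x * (g * (q : G) * g⁻¹) * x⁻¹ := by
    intro q
    rw [ha q, exg]; group
  by_contra hpM
  have hPa : ∀ q ∈ P, a q ∈ P := by
    intro q hq
    rw [hPm] at hq ⊢
    rw [← haj, ← map_mul, hq, map_mul, haj]
  obtain ⟨q, hqP, hqD, hq⟩ := fixed_coset a (ha.sq hyy) P D (hP ▸ hP2 j hjj hj1) hPa
    (by
      intro q hq
      obtain ⟨h1, h2⟩ := (hDm q).mp hq
      refine (hDm _).mpr ⟨(hPm _).mp (hPa q ((hPm q).mpr h1)), ?_⟩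
      rw [hcon]
      exact mul_mem (mul_mem H.xM h2) (inv_mem H.xM))
    (fun q hq => (hPm q).mpr ((hDm q).mp hq).1)
    (fun h => hpM ((hDm p).mp (h ((hPm p).mpr hp))).2)
  rw [hPm] at hqP
  obtain ⟨c, hc⟩ : ∃ c, c = g * (q : G) * g⁻¹ := ⟨_, rfl⟩
  have hcM : c ∉ normalizer (L : Set G) := fun h => hqD ((hDm q).mpr ⟨hqP, hc ▸ h⟩)
  have hct : c * (g * (j : G) * g⁻¹) * c⁻¹ = g * (j : G) * g⁻¹ := by
    have h1 : (q : G) * j = j * q := congrArg Subtype.val hqP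
    rw [hc]
    calc g * (q : G) * g⁻¹ * (g * (j : G) * g⁻¹) * (g * (q : G) * g⁻¹)⁻¹
        = g * (q * j) * (q : G)⁻¹ * g⁻¹ := by group
      _ = g * (j * q) * (q : G)⁻¹ * g⁻¹ := by rw [h1]
      _ = g * (j : G) * g⁻¹ := by group
  rcases H.cmp _ _ c hj hj hct with h1 | h1
  · exact hcM h1
  · refine H.twin c ?_ h1
    have h2 : c⁻¹ * x * c = (g * ((q⁻¹ * a q : L) : G) * g⁻¹) * x := by
      rw [Subgroup.coe_mul, Subgroup.coe_inv]
      calc c⁻¹ * x * c = (g * (q : G)⁻¹ * g⁻¹) * (x * (g * (q : G) * g⁻¹) * x⁻¹) * x := by rw [hc]; group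
        _ = (g * (q : G)⁻¹ * g⁻¹) * (g * (a q : G) * g⁻¹) * x := by rw [← hcon]
        _ = _ := by group
    rw [h2]
    exact mul_mem ((hDm _).mp hq).2 H.xM

/-- `x` wild on `g L g⁻¹` -/
theorem fix_wild [Finite G] {X : MulAut L} (hX : Acts L x X) (F : Facts X)
    (hP2 : ∀ j : L, j * j = 1 → j ≠ 1 → IsPGroup 2 (centralizer ({j} : Set L))) {g : G}
    (hg : g ∉ normalizer (L : Set G)) {a : MulAut L} (hy : Acts L (g⁻¹ * x * g) a) (hw : Wild X a) : False := by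
  have hxg := hy.mem
  obtain ⟨y, hyd⟩ : ∃ y, y = g⁻¹ * x * g := ⟨_, rfl⟩
  rw [← hyd] at hy
  have exg : x = g * y * g⁻¹ := by rw [hyd]; group
  have hcm : ∀ c : L, a c = c → (g * (c : G) * g⁻¹) * x = x * (g * (c : G) * g⁻¹) := by
    intro c hc
    have h1 : y * (c : G) = c * y := (hy.fix_iff c).mp hc
    calc g * (c : G) * g⁻¹ * x = g * (c : G) * g⁻¹ * (g * y * g⁻¹) := by rw [← exg]
      _ = g * (c * y) * g⁻¹ := by group
      _ = g * (y * c) * g⁻¹ := by rw [h1]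
      _ = (g * y * g⁻¹) * (g * (c : G) * g⁻¹) := by group
      _ = x * (g * (c : G) * g⁻¹) := by rw [← exg]
  obtain ⟨ψ, hψ⟩ := exists_hom (L := L) (J := fx a) (g := g) (fun j hj => H.Cx (hcm j hj))
  have h4 : ∀ j : L, a j = j → g * (j : G) * g⁻¹ ∈ centralizer (L : Set G) := by
    intro j hj
    have h5 := F.hom_trivial hw F.solx ψ (fun j => by
      rw [mem_centralizer_singleton_iff]
      exact (hψ j).comm hX (hcm j j.2)) ⟨j, hj⟩
    have h6 := hψ ⟨j, hj⟩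
    rw [h5] at h6
    exact acts_one_iff.mp h6
  obtain ⟨i, hi, hii, hi1, -⟩ := exists_fixed_inv (1 : MulAut L) (one_mul 1) (fx a) (fun d hd => hd) (F.weven a hw)
  have hiT : IsT L x (g * (i : G) * g⁻¹) := by
    have hii' : (i : G) * i = 1 := congrArg Subtype.val hii
    refine ⟨h4 i hi, hcm i hi, ?_, ?_⟩
    · calc g * (i : G) * g⁻¹ * (g * (i : G) * g⁻¹) = g * (i * i) * g⁻¹ := by group
        _ = 1 := by rw [hii']; group
    · intro h
      apply hi1
      apply Subtype.ext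
      calc (i : G) = g⁻¹ * (g * (i : G) * g⁻¹) * g := by group
        _ = 1 := by rw [h]; group
  exact H.no hg hxg (Hyp.gen_le F hw hii hi1 hi (fun j hj => H.Cx (hcm j hj))
    (fun j hj => H.cent_le hxg hP2 hiT hj))

/-- `v = g t g⁻¹` commutes with `x` and acts on `L` as a reflection on `YY L x` (or inverting it) -/
theorem fix_one [Finite G] {X : MulAut L} (hX : Acts L x X) (F : Facts X) {g : G}
    (hg : g ∉ normalizer (L : Set G)) (hk : g⁻¹ * x * g * x ∈ centralizer (L : Set G)) {t : G} (ht : IsT L x t)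
    (hvx : g * t * g⁻¹ * x = x * (g * t * g⁻¹)) {β : MulAut L} (hβ : Acts L (g * t * g⁻¹) β)
    (hone : ∀ y z : L, y ^ 3 = 1 → X y = y → β y = y → z ^ 3 = 1 → X z = z → β z = z →
      y = 1 ∨ z = 1 ∨ y = z ∨ y = z⁻¹) : False := by
  obtain ⟨y, hyd⟩ : ∃ y, y = g⁻¹ * x * g := ⟨_, rfl⟩
  rw [← hyd] at hk
  have exg : x = g * y * g⁻¹ := by rw [hyd]; group
  have hyX : Acts L y X := by
    have h1 := (hX.inv).Kmul hk
    have h2 : y * x * x⁻¹ = y := by group
    rw [h2, F.xinv] at h1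
    exact h1
  have hxg : g⁻¹ * x * g ∈ normalizer (L : Set G) := hyd ▸ hyX.mem
  obtain ⟨v, hv⟩ : ∃ v, v = g * t * g⁻¹ := ⟨_, rfl⟩
  rw [← hv] at hvx hβ
  -- elements of `C_L(x)`
  have hR : ∀ r : L, X r = r → (g * (r : G) * g⁻¹) * x = x * (g * (r : G) * g⁻¹) := by
    intro r hr
    have h1 : y * (r : G) = r * y := (hyX.fix_iff r).mp hr
    calc g * (r : G) * g⁻¹ * x = g * (r : G) * g⁻¹ * (g * y * g⁻¹) := by rw [← exg]
      _ = g * (r * y) * g⁻¹ := by group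
      _ = g * (y * r) * g⁻¹ := by rw [h1]
      _ = (g * y * g⁻¹) * (g * (r : G) * g⁻¹) := by group
      _ = x * (g * (r : G) * g⁻¹) := by rw [← exg]
  have hRM : ∀ r : L, X r = r → g * (r : G) * g⁻¹ ∈ normalizer (L : Set G) := fun r hr => H.Cx (hR r hr)
  have hRv : ∀ r : L, (g * (r : G) * g⁻¹) * v = v * (g * (r : G) * g⁻¹) := by
    intro r
    have h1 := comm_of_mem r.2 ht.mem
    rw [hv]
    calc g * (r : G) * g⁻¹ * (g * t * g⁻¹) = g * (r * t) * g⁻¹ := by group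
      _ = g * (t * r) * g⁻¹ := by rw [h1]
      _ = _ := by group
  obtain ⟨ψ, hψ⟩ := exists_hom (L := L) (J := fx X) (g := g) (fun r hr => hRM r hr)
  have hψX : ∀ r, ψ r * X = X * ψ r := fun r => (hψ r).comm hX (hR r r.2)
  have hψβ : ∀ r, ψ r * β = β * ψ r := fun r => (hψ r).comm hβ (hRv r)
  obtain ⟨a, b, ha3, hXa, hb3, hXb, ha1, hb1, hab, hab'⟩ := F.indep
  obtain ⟨a', ha'⟩ : ∃ a' : fx X, (a' : L) = a := ⟨⟨a, hXa⟩, rfl⟩
  obtain ⟨b', hb'⟩ : ∃ b' : fx X, (b' : L) = b := ⟨⟨b, hXb⟩, rfl⟩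
  have ha3' : a' ^ 3 = 1 := Subtype.ext (by rw [← ha'] at ha3; exact ha3)
  have hb3' : b' ^ 3 = 1 := Subtype.ext (by rw [← hb'] at hb3; exact hb3)
  have hthree : ∀ c d : fx X, c ^ 3 = 1 → d ^ 3 = 1 → (c * d) ^ 3 = 1 := by
    intro c d hc hd
    apply Subtype.ext
    exact F.three c d (congrArg Subtype.val hc) c.2 (congrArg Subtype.val hd) d.2
  -- a non-trivial element acting as inner automorphism
  have hex : ∃ y : fx X, y ^ 3 = 1 ∧ y ≠ 1 ∧ ∃ l, ψ y = MulAut.conj l := by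
    have hb1' : b' ≠ 1 := fun h => hb1 (by rw [← hb', h]; rfl)
    have ha1' : a' ≠ 1 := fun h => ha1 (by rw [← ha', h]; rfl)
    rcases F.out3 (ψ a') (ψ b') (by rw [← map_pow, ha3', map_one]) (by rw [← map_pow, hb3', map_one]) with
      h | h | ⟨l, hl⟩ | ⟨l, hl⟩
    · exact ⟨b', hb3', hb1', h⟩
    · exact ⟨a', ha3', ha1', h⟩
    · refine ⟨b'⁻¹ * a', hthree _ _ (by rw [inv_pow, hb3', inv_one]) ha3', ?_, l, ?_⟩
      · intro h
        apply hab
        rw [← ha', ← hb', inv_mul_eq_one.mp h]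
      · rw [map_mul, map_inv, hl]; group
    · refine ⟨b' * a', hthree _ _ hb3' ha3', ?_, l, ?_⟩
      · intro h
        apply hab'
        rw [← ha', ← hb', eq_inv_of_mul_eq_one_right h]
        rfl
      · rw [map_mul, hl]; group
  obtain ⟨y₁, hy₁3, hy₁1, l₁, hl₁⟩ := hex
  -- all elements of order 3 act as inner automorphisms
  have hin : ∀ z : fx X, z ^ 3 = 1 → ∃ l, ψ z = MulAut.conj l := by
    intro z hz3
    have h1 := F.irr y₁ z (congrArg Subtype.val hy₁3) (fun h => hy₁1 (Subtype.ext h)) y₁.2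
      (congrArg Subtype.val hz3) z.2
    have key : ∀ w ∈ closure {w | ∃ r, X r = r ∧ w = r * (y₁ : L) * r⁻¹}, ∃ hw : w ∈ fx X,
        ∃ l, ψ ⟨w, hw⟩ = MulAut.conj l := by
      intro w hw
      induction hw using closure_induction with
      | mem w hw =>
        obtain ⟨r, hr, rfl⟩ := hw
        have hr' : r ∈ fx X := hr
        refine ⟨mul_mem (mul_mem hr' y₁.2) (inv_mem hr'), ψ ⟨r, hr'⟩ l₁, ?_⟩
        have e1 : (⟨r * (y₁ : L) * r⁻¹, mul_mem (mul_mem hr' y₁.2) (inv_mem hr')⟩ : fx X) =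
            ⟨r, hr'⟩ * y₁ * ⟨r, hr'⟩⁻¹ := rfl
        rw [e1, map_mul, map_mul, map_inv, hl₁, conj_conj]
      | one => exact ⟨one_mem _, 1, by rw [map_one]; exact map_one ψ⟩
      | mul c d _ _ hc hd =>
        obtain ⟨h1, l, hl⟩ := hc
        obtain ⟨h2, m, hm⟩ := hd
        refine ⟨mul_mem h1 h2, l * m, ?_⟩
        have e1 : (⟨c * d, mul_mem h1 h2⟩ : fx X) = ⟨c, h1⟩ * ⟨d, h2⟩ := rfl
        rw [e1, map_mul, hl, hm, map_mul]
      | inv c _ hc =>
        obtain ⟨h1, l, hl⟩ := hc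
        refine ⟨inv_mem h1, l⁻¹, ?_⟩
        have e1 : (⟨c⁻¹, inv_mem h1⟩ : fx X) = ⟨c, h1⟩⁻¹ := rfl
        rw [e1, map_inv, hl, map_inv]
    obtain ⟨_, l, hl⟩ := key z h1
    exact ⟨l, hl⟩
  have hfx : ∀ (z : fx X) (l : L), z ^ 3 = 1 → ψ z = MulAut.conj l → l ^ 3 = 1 ∧ X l = l ∧ β l = l := by
    intro z l hz hl
    refine ⟨?_, ?_, ?_⟩
    · apply F.cl
      rw [map_pow, ← hl, ← map_pow, hz, map_one]
    · rw [← F.comm_conj_iff, ← hl]
      exact (hψX z).symm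
    · rw [← F.comm_conj_iff, ← hl]
      exact (hψβ z).symm
  -- a non-trivial element acting trivially
  have hex2 : ∃ y : fx X, y ^ 3 = 1 ∧ y ≠ 1 ∧ ψ y = 1 := by
    have hb1' : b' ≠ 1 := fun h => hb1 (by rw [← hb', h]; rfl)
    have ha1' : a' ≠ 1 := fun h => ha1 (by rw [← ha', h]; rfl)
    obtain ⟨l, hl⟩ := hin a' ha3'
    obtain ⟨m, hm⟩ := hin b' hb3'
    obtain ⟨h1, h2, h3⟩ := hfx a' l ha3' hl
    obtain ⟨h4, h5, h6⟩ := hfx b' m hb3' hm
    rcases hone l m h1 h2 h3 h4 h5 h6 with h | h | h | h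
    · exact ⟨a', ha3', ha1', by rw [hl, h, map_one]⟩
    · exact ⟨b', hb3', hb1', by rw [hm, h, map_one]⟩
    · refine ⟨b'⁻¹ * a', hthree _ _ (by rw [inv_pow, hb3', inv_one]) ha3', ?_, ?_⟩
      · intro h
        apply hab
        rw [← ha', ← hb', inv_mul_eq_one.mp h]
      · rw [map_mul, map_inv, hl, hm, h, inv_mul_cancel]
    · refine ⟨b' * a', hthree _ _ hb3' ha3', ?_, ?_⟩
      · intro h
        apply hab'
        rw [← ha', ← hb', eq_inv_of_mul_eq_one_right h]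
        rfl
      · rw [map_mul, hl, hm, h, map_inv, mul_inv_cancel]
  obtain ⟨y₂, hy₂3, hy₂1, hy₂⟩ := hex2
  have hYK : ∀ r : L, X r = r → r ^ 3 = 1 → g * (r : G) * g⁻¹ ∈ centralizer (L : Set G) := by
    intro r hr hr3
    have h1 := F.irr y₂ r (congrArg Subtype.val hy₂3) (fun h => hy₂1 (Subtype.ext h)) y₂.2 hr3 hr
    have h2 : g * ((y₂ : L) : G) * g⁻¹ ∈ centralizer (L : Set G) := by
      have := hψ y₂
      rw [hy₂] at this
      exact acts_one_iff.mp this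
    have key : ∀ w ∈ closure {w | ∃ r, X r = r ∧ w = r * (y₂ : L) * r⁻¹},
        g * (w : G) * g⁻¹ ∈ centralizer (L : Set G) := by
      intro w hw
      induction hw using closure_induction with
      | mem w hw =>
        obtain ⟨r, hr, rfl⟩ := hw
        have e1 : g * ((r * (y₂ : L) * r⁻¹ : L) : G) * g⁻¹ =
            (g * (r : G) * g⁻¹) * (g * ((y₂ : L) : G) * g⁻¹) * (g * (r : G) * g⁻¹)⁻¹ := by
          change g * ((r : G) * ((y₂ : L) : G) * (r : G)⁻¹) * g⁻¹ = _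
          group
        rw [e1]
        exact K_conj (hRM r hr) h2
      | one => simp
      | mul a b _ _ ha hb =>
        have e1 : g * ((a * b : L) : G) * g⁻¹ = (g * (a : G) * g⁻¹) * (g * (b : G) * g⁻¹) := by
          change g * ((a : G) * (b : G)) * g⁻¹ = _
          group
        rw [e1]
        exact mul_mem ha hb
      | inv a _ ha =>
        have e1 : g * ((a⁻¹ : L) : G) * g⁻¹ = (g * (a : G) * g⁻¹)⁻¹ := by
          change g * (a : G)⁻¹ * g⁻¹ = _
          group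
        rw [e1]
        exact inv_mem ha
    exact key r h1
  -- `g⁻¹ L g ≤ C(YY L x)`
  have hL : ∀ l ∈ L, g⁻¹ * l * g⁻¹⁻¹ ∈ normalizer (L : Set G) := by
    intro l hl
    rw [inv_inv]
    apply H.NY
    intro z hz
    obtain ⟨hzL, hz3, hzx⟩ := H.memY.mp hz
    have h1 := hYK ⟨z, hzL⟩ ((hX.fix_iff _).mpr hzx.symm) (Subtype.ext hz3)
    have h2 : l * (g * z * g⁻¹) = g * z * g⁻¹ * l := comm_of_mem hl h1
    have h3 : g⁻¹ * l * g * z * (g⁻¹ * l * g)⁻¹ = z := by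
      calc g⁻¹ * l * g * z * (g⁻¹ * l * g)⁻¹ = g⁻¹ * (l * (g * z * g⁻¹)) * l⁻¹ * g := by group
        _ = g⁻¹ * (g * z * g⁻¹ * l) * l⁻¹ * g := by rw [h2]
        _ = z := by group
    rw [h3]
    exact hz
  rcases H.star hL with h1 | h1
  · apply hg
    have := inv_mem h1
    rwa [inv_inv] at this
  · refine H.twin g hxg (fun l hl => ?_)
    rw [mem_centralizer_iff]
    intro m hm
    have h2 := h1 m hm
    have h3 : l * (g⁻¹ * m * g⁻¹⁻¹) = g⁻¹ * m * g⁻¹⁻¹ * l := comm_of_mem hl h2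
    rw [inv_inv] at h3
    calc m * (g * l * g⁻¹) = g * ((g⁻¹ * m * g) * l) * g⁻¹ := by group
      _ = g * (l * (g⁻¹ * m * g)) * g⁻¹ := by rw [h3]
      _ = g * l * g⁻¹ * m := by group

/-- the main step -/
theorem fix3 [Finite G] {g : G} (hg : g ∉ normalizer (L : Set G))
    (hk : g⁻¹ * x * g * x ∈ centralizer (L : Set G)) : False := by
  obtain ⟨X, hX, F5⟩ := H.fct
  have F := F5.toFacts
  obtain ⟨y, hy⟩ : ∃ y, y = g⁻¹ * x * g := ⟨_, rfl⟩
  obtain ⟨k, hkd⟩ : ∃ k, k = y * x := ⟨_, rfl⟩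
  have hyy : y * y = 1 := by
    rw [hy]
    calc g⁻¹ * x * g * (g⁻¹ * x * g) = g⁻¹ * (x * x) * g := by group
      _ = 1 := by rw [H.xx]; group
  have hkK : k ∈ centralizer (L : Set G) := by rw [hkd, hy]; exact hk
  have hykx : y = k * x := by
    rw [hkd, mul_assoc, H.xx, mul_one]
  have hyX : Acts L y X := by rw [hykx]; exact hX.Kmul hkK
  have hxg : g⁻¹ * x * g ∈ normalizer (L : Set G) := hy ▸ hyX.mem
  have hxk : x * k * x⁻¹ = k⁻¹ := by
    rw [hkd, mul_inv_rev, inv_eq_of_mul_eq_one_left hyy, H.xi]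
    calc x * (y * x) * x = x * y * (x * x) := by group
      _ = x * y := by rw [H.xx, mul_one]
  have hxz : ∀ j ∈ zpowers k, x * j * x⁻¹ = j⁻¹ := by
    intro j hj
    obtain ⟨n, rfl⟩ := mem_zpowers_iff.mp hj
    rw [← conj_zpow, hxk, inv_zpow]
  have hzK : ∀ j ∈ zpowers k, j ∈ centralizer (L : Set G) := fun j hj =>
    (zpowers_le.mpr hkK) hj
  rcases Nat.even_or_odd (orderOf k) with hev | hodd
  · obtain ⟨n, hn⟩ := hev
    have hnpos : 0 < n := by
      have := orderOf_pos k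
      omega
    obtain ⟨t, htd⟩ : ∃ t, t = k ^ n := ⟨_, rfl⟩
    have htz : t ∈ zpowers k := htd ▸ pow_mem (mem_zpowers k) n
    have htt : t * t = 1 := by rw [htd, ← pow_add, ← hn, pow_orderOf_eq_one]
    have ht1 : t ≠ 1 := by
      rw [htd]
      intro h
      have := orderOf_le_of_pow_eq_one hnpos h
      omega
    have htx : t * x = x * t := by
      have h1 := hxz t htz
      rw [inv_eq_of_mul_eq_one_left htt] at h1
      calc t * x = (x * t * x⁻¹) * x := by rw [h1]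
        _ = x * t := by group
    have htT : IsT L x t := ⟨hzK t htz, htx, htt, ht1⟩
    have hty : t * y = y * t := by
      have h1 : t * k = k * t := by
        rw [htd]; exact ((Commute.refl k).pow_left n)
      rw [hykx]
      calc t * (k * x) = (t * k) * x := by group
        _ = k * (t * x) := by rw [h1]; group
        _ = k * x * t := by rw [htx]; group
    obtain ⟨v, hv⟩ : ∃ v, v = g * t * g⁻¹ := ⟨_, rfl⟩
    have hvt : g⁻¹ * v * g = t := by rw [hv]; group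
    have hvx : v * x = x * v := by
      rw [hv]
      have e1 : x = g * y * g⁻¹ := by rw [hy]; group
      calc g * t * g⁻¹ * x = g * t * g⁻¹ * (g * y * g⁻¹) := by rw [← e1]
        _ = g * (t * y) * g⁻¹ := by group
        _ = g * (y * t) * g⁻¹ := by rw [hty]
        _ = (g * y * g⁻¹) * (g * t * g⁻¹) := by group
        _ = x * (g * t * g⁻¹) := by rw [← e1]
    have hvv : v * v = 1 := by
      rw [hv]
      calc g * t * g⁻¹ * (g * t * g⁻¹) = g * (t * t) * g⁻¹ := by group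
        _ = 1 := by rw [htt]; group
    have hv1 : v ≠ 1 := by
      intro h
      apply ht1
      rw [← hvt, h]; group
    have hvM := H.Cx hvx
    have hvL : ∀ l ∈ L, (g * l * g⁻¹) * v = v * (g * l * g⁻¹) := by
      intro l hl
      have h1 := comm_of_mem hl htT.mem
      rw [hv]
      calc g * l * g⁻¹ * (g * t * g⁻¹) = g * (l * t) * g⁻¹ := by group
        _ = g * (t * l) * g⁻¹ := by rw [h1]
        _ = _ := by group
    obtain ⟨β, hβ⟩ := exists_acts hvM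
    by_cases hw : Wild X β
    · exact H.fix_one hX F hg hk htT (by rw [← hv]; exact hvx) (by rw [← hv]; exact hβ)
        (F5.wone β hw (hβ.comm hX hvx))
    rcases H.cls hX F hvx hvv hv1 hβ hw with h | ⟨t₁, ht₁, h⟩ | ⟨s, hs, t₁, ht₁, h⟩ | ⟨s, hs, t₁, ht₁, h⟩
    · rcases H.cmp t v g htT h hv.symm with h1 | h1
      · exact hg h1
      · exact H.twin g hxg h1
    · exact H.no hg hxg (fun l hl => H.Ce t₁ ht₁ _ (by rw [← h]; exact hvL l hl))
    · have hβs : β = MulAut.conj ⟨s, hs.mem⟩ := by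
        have h1 := (acts_of_mem hs.mem).mulK ht₁.mem
        rw [← h] at h1
        exact hβ.uniq h1
      refine H.fix_one hX F hg hk htT (by rw [← hv]; exact hvx) (by rw [← hv]; exact hβ) ?_
      intro z _ hz3 hXz hβz _ _ _
      left
      have h1 := F5.inv ⟨s, hs.mem⟩ z (Subtype.ext hs.sq) (fun h => hs.ne (congrArg Subtype.val h))
        ((hX.fix_iff _).mpr hs.comm.symm) hz3 hXz
      rw [hβs, MulAut.conj_apply] at hβz
      rw [hβz] at h1
      have h2 : z * z = 1 := by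
        nth_rw 1 [h1]
        exact inv_mul_cancel z
      calc z = z ^ 3 * (z * z)⁻¹ := by group
        _ = 1 := by rw [hz3, h2]; group
    · exact H.no hg hxg (fun l hl => H.Cxst hs ht₁ (by rw [← h]; exact hvL l hl))
  · obtain ⟨j, hj, hjz⟩ := exists_sqrt hodd
    have h1 := hxz j hjz
    have h2 : j * x * j⁻¹ = y := by
      have h3 : x * j⁻¹ * x⁻¹ = j := by
        have := hxz j⁻¹ (inv_mem hjz)
        rwa [inv_inv] at this
      calc j * x * j⁻¹ = j * (x * j⁻¹ * x⁻¹) * x := by group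
        _ = j * j * x := by rw [h3]
        _ = y := by rw [hj, ← hykx]
    have h3 : (g * j) * x = x * (g * j) := by
      calc (g * j) * x = g * (j * x * j⁻¹) * j := by group
        _ = g * (g⁻¹ * x * g) * j := by rw [h2, hy]
        _ = x * (g * j) := by group
    apply hg
    have h4 : g = (g * j) * j⁻¹ := by group
    rw [h4]
    exact mul_mem (H.Cx h3) (inv_mem (K_le_M (hzK j hjz)))

/-- **(4)** `x` normalizes exactly one conjugate of `L`. -/
theorem fix [Finite G] {g : G} (hx : g⁻¹ * x * g ∈ normalizer (L : Set G)) :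
    g ∈ normalizer (L : Set G) := by
  by_contra hg
  obtain ⟨X, hX, F5⟩ := H.fct
  have F := F5.toFacts
  have hxg := hx
  obtain ⟨y, hy⟩ : ∃ y, y = g⁻¹ * x * g := ⟨_, rfl⟩
  rw [← hy] at hx
  have hyy : y * y = 1 := by
    rw [hy]
    calc g⁻¹ * x * g * (g⁻¹ * x * g) = g⁻¹ * (x * x) * g := by group
      _ = 1 := by rw [H.xx]; group
  obtain ⟨b, hb⟩ := exists_acts hx
  have hcomm : ∀ l : L, b l = l → g * (l : G) * g⁻¹ * x = x * (g * (l : G) * g⁻¹) := by
    intro l hl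
    have h1 := (hb.fix_iff l).mp hl
    have e1 : x = g * y * g⁻¹ := by rw [hy]; group
    calc g * (l : G) * g⁻¹ * x = g * (l : G) * g⁻¹ * (g * y * g⁻¹) := by rw [← e1]
      _ = g * (l * y) * g⁻¹ := by group
      _ = g * (y * l) * g⁻¹ := by rw [h1]
      _ = (g * y * g⁻¹) * (g * (l : G) * g⁻¹) := by group
      _ = x * (g * (l : G) * g⁻¹) := by rw [← e1]
  rcases tri X (hb.sq hyy) with ⟨s₀, hs₀⟩ | ⟨l, hl⟩ | hw
  · by_cases hs1 : s₀ = 1
    · rw [hs1, map_one] at hs₀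
      exact H.no hg hxg (fun l hl => H.Cx (hcomm ⟨l, hl⟩ (by rw [hs₀]; rfl)))
    · rw [hs₀] at hb
      exact H.fix_inner hX F hg (F.sq_of_conj (hb.sq hyy)) hs1 (hy ▸ hb)
  · -- `y` is conjugate to `x` modulo `K`
    have h1 := hb.sq hyy
    rw [hl] at h1 hb
    obtain ⟨m, hm⟩ := F.xconj l h1
    refine H.fix3 (g := g * (m : G)⁻¹) (fun h1 => hg ?_) ?_
    · have h2 : g = g * (m : G)⁻¹ * m := by group
      rw [h2]
      exact mul_mem h1 (L_le_M m.2)
    · have h2 := ((acts_coe m).mul hb).mul (acts_coe m).inv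
      rw [hm] at h2
      have h3 := h2.mul hX
      rw [F.xx] at h3
      have h4 : (g * (m : G)⁻¹)⁻¹ * x * (g * (m : G)⁻¹) * x = (m : G) * y * (m : G)⁻¹ * x := by
        rw [hy]; group
      rw [h4]
      exact acts_one_iff.mp h3
  · exact H.fix_wild hX F F5.p2 hg (hy ▸ hb) hw

end Base

end Cfsg.Agent.UGT.ThEP
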