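import Cfsg.Agent.UGT.ThEP.Six
import Cfsg.Agent.UGT.ThEP.Eight
import Cfsg.Agent.UGT.Res.ThH

/-!
# Theorem E for `L = L₃(4)`, commuting conjugates of `L` allowed, `x ∉ S`: the end

`Full.com` (COM), `Full.link` (LINK), `Full.all` : all conjugates of `L` are equal to `L` or commute with `L`;
`Full.false_of` : the contradiction.
-/

set_option autoImplicit false

open Subgroup

namespace Cfsg.Agent.UGT.ThEP

open Cfsg.Agent.UGT.ThE.Base (comm_of_mem L_conj L_conj' K_le_M L_le_M K_conj K_conj' IsT IsS IsT1)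
open Cfsg.Agent.UGT.ThEL34
open Cfsg.Agent.UGT.CE.L34 (Facts3 Facts4 YY mem_YY perfect_bot)

variable {G : Type*} [Group G]

/-- `L` is perfect -/
theorem lperf {D : Type*} [Group D] {X : MulAut D} (F : Facts X) : commutator D = ⊤ := by
  rcases F.simp.eq_bot_or_eq_top_of_normal (commutator D) inferInstance with h | h
  · exfalso
    have := F.simp
    obtain ⟨l, hl⟩ := exists_ne (1 : D)
    apply hl
    apply F.cl
    ext m
    rw [MulAut.conj_apply, MulAut.one_apply]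
    have h2 : l * m * l⁻¹ * m⁻¹ ∈ commutator D := by
      rw [_root_.commutator_def]
      exact commutator_mem_commutator (mem_top l) (mem_top m)
    rw [h, mem_bot] at h2
    exact mul_inv_eq_one.mp h2
  · exact h

/-- a homomorphism from `L` into a solvable group is trivial -/
theorem hom_one {D A : Type*} [Group D] [Group A] {X : MulAut D} (F : Facts X) {S : Subgroup A}
    (hS : Group.IsSolvable S) (ψ : D →* A) (h : ∀ j, ψ j ∈ S) (j : D) : ψ j = 1 := by
  have h1 : ψ.range ≤ ⁅ψ.range, ψ.range⁆ := by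
    rw [MonoidHom.range_eq_map, ← map_commutator, ← _root_.commutator_def, lperf F]
  have h2 := perfect_bot hS h1 (by rintro _ ⟨j, rfl⟩; exact h j)
  have h3 : ψ j ∈ ψ.range := ⟨j, rfl⟩
  rwa [h2, mem_bot] at h3

/-- the diagonal of `L × L^z` -/
theorem diag {L : Subgroup G} {X : MulAut L} (F : Facts X) {z h w : G} (hzz : z * z = 1)
    (hz : ∀ l ∈ L, z * l * z⁻¹ ∈ centralizer (L : Set G))
    (hN : ∀ c, c * z = z * c → h⁻¹ * c * h ∈ normalizer (L : Set G)) (hw : h⁻¹ * z * h = w) {b : MulAut L}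
    (hb : Acts L w b) (hs : Group.IsSolvable (centralizer ({b} : Set (MulAut L)))) (l : G) (hl : l ∈ L) :
    h⁻¹ * (l * (z * l * z⁻¹)) * h ∈ centralizer (L : Set G) := by
  have hcz : ∀ l ∈ L, (l * (z * l * z⁻¹)) * z = z * (l * (z * l * z⁻¹)) := by
    intro l hl
    have hzi : z⁻¹ = z := inv_eq_of_mul_eq_one_left hzz
    have h1 := comm_of_mem hl (hz l hl)
    rw [hzi] at h1 ⊢
    calc l * (z * l * z) * z = l * z * l * (z * z) := by group
      _ = (z * z) * l * z * l := by rw [hzz]; group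
      _ = z * ((z * l * z) * l) := by group
      _ = z * (l * (z * l * z)) := by rw [h1]
  obtain ⟨f, hf⟩ : ∃ f : L →* normalizer (L : Set G), ∀ l : L,
      ((f l : normalizer (L : Set G)) : G) = h⁻¹ * ((l : G) * (z * l * z⁻¹)) * h := by
    refine ⟨{ toFun := fun l => ⟨h⁻¹ * ((l : G) * (z * l * z⁻¹)) * h, hN _ (hcz l l.2)⟩
              map_one' := Subtype.ext (by
                change h⁻¹ * ((1 : G) * (z * 1 * z⁻¹)) * h = 1
                group)
              map_mul' := fun a b => Subtype.ext (by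
                change h⁻¹ * ((a : G) * b * (z * (a * b) * z⁻¹)) * h =
                  (h⁻¹ * ((a : G) * (z * a * z⁻¹)) * h) * (h⁻¹ * ((b : G) * (z * b * z⁻¹)) * h)
                have h1 := comm_of_mem b.2 (hz a a.2)
                calc h⁻¹ * ((a : G) * b * (z * (a * b) * z⁻¹)) * h
                    = h⁻¹ * ((a : G) * (b * (z * a * z⁻¹)) * (z * b * z⁻¹)) * h := by group
                  _ = h⁻¹ * ((a : G) * ((z * a * z⁻¹) * b) * (z * b * z⁻¹)) * h := by rw [h1]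
                  _ = _ := by group) }, fun _ => rfl⟩
  have h1 := hom_one F hs (L.normalizerMonoidHom.comp f) (fun l => by
    rw [mem_centralizer_singleton_iff]
    have h2 : Acts L (f l : G) ((L.normalizerMonoidHom.comp f) l) := acts_norm (f l)
    refine h2.comm hb ?_
    rw [hf, ← hw]
    calc h⁻¹ * ((l : G) * (z * l * z⁻¹)) * h * (h⁻¹ * z * h) = h⁻¹ * (((l : G) * (z * l * z⁻¹)) * z) * h := by group
      _ = h⁻¹ * (z * ((l : G) * (z * l * z⁻¹))) * h := by rw [hcz l l.2]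
      _ = _ := by group) ⟨l, hl⟩
  have h2 : Acts L (f ⟨l, hl⟩ : G) ((L.normalizerMonoidHom.comp f) ⟨l, hl⟩) := acts_norm (f _)
  rw [h1, hf] at h2
  exact acts_one_iff.mp h2

namespace NA

variable {L : Subgroup G} {x : G} (H : NA L x)
include H

/-- **(COM)** -/
theorem com [Finite G] (k : ℕ) : ∀ (g u v : G), u ∈ L → v ∈ L → u * u = 1 → u ≠ 1 → v * v = 1 → v ≠ 1 →
    (u * (g * v * g⁻¹)) ^ 2 ^ k = 1 → Sim L g := by
  obtain ⟨X, hX, F5⟩ := H.fct
  have F : Facts X := F5.toFacts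
  induction k with
  | zero =>
    intro g u v hu hv huu hu1 hvv hv1 h
    apply H.na hv hvv hv1
    rw [pow_zero, pow_one] at h
    have h1 : g * v * g⁻¹ = u⁻¹ := eq_inv_of_mul_eq_one_right h
    rw [h1]
    exact inv_mem (L_le_M hu)
  | succ k ih =>
    intro g u v hu hv huu hu1 hvv hv1 h
    by_contra hns
    obtain ⟨z, hz⟩ : ∃ z, z = g * v * g⁻¹ := ⟨_, rfl⟩
    rw [← hz] at h
    have hzz : z * z = 1 := by
      rw [hz]
      calc g * v * g⁻¹ * (g * v * g⁻¹) = g * (v * v) * g⁻¹ := by group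
        _ = 1 := by rw [hvv]; group
    have hzi : z⁻¹ = z := inv_eq_of_mul_eq_one_left hzz
    have hui : u⁻¹ = u := inv_eq_of_mul_eq_one_left huu
    -- `z ∉ N(L)`, `u ∉ N(g L g⁻¹)`
    have hzM : z ∉ normalizer (L : Set G) := fun h1 => hns (H.na hv hvv hv1 (hz ▸ h1))
    have huM : g⁻¹ * u * g ∉ normalizer (L : Set G) := by
      intro h1
      apply hns
      apply Sim.of_inv
      apply H.na hu huu hu1
      rw [inv_inv]
      exact h1
    have e1 : u * (z * u * z⁻¹) = (u * z) ^ 2 := by rw [hzi, pow_two]; group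
    have h1 : Sim L z := ih z u u hu hu huu hu1 huu hu1 (by rw [e1, ← pow_mul, ← pow_succ']; exact h)
    have h2 : Sim L (g⁻¹ * u * g) := by
      refine ih (g⁻¹ * u * g) v v hv hv hvv hv1 hvv hv1 ?_
      have e2 : v * (g⁻¹ * u * g * v * (g⁻¹ * u * g)⁻¹) = g⁻¹ * ((u * z) ^ 2)⁻¹ * g := by
        have e3 : ((u * z) ^ 2)⁻¹ = z * u * z * u := by
          rw [pow_two, mul_inv_rev, mul_inv_rev, hzi, hui]; group
        rw [e3, hz]
        calc v * (g⁻¹ * u * g * v * (g⁻¹ * u * g)⁻¹) = g⁻¹ * ((g * v * g⁻¹) * u * (g * v * g⁻¹) * u⁻¹) * g := by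
              group
          _ = g⁻¹ * ((g * v * g⁻¹) * u * (g * v * g⁻¹) * u) * g := by rw [hui]
      have e4 : g⁻¹ * ((u * z) ^ 2)⁻¹ * g = g⁻¹ * ((u * z) ^ 2)⁻¹ * g⁻¹⁻¹ := by rw [inv_inv]
      rw [e2, e4, conj_pow, inv_pow, ← pow_mul, ← pow_succ', h]
      group
    have h3 := h1.resolve_left hzM
    have h4 := h2.resolve_left huM
    -- the diagonal
    have hv1' : (⟨v, hv⟩ : L) ≠ 1 := fun h => hv1 (congrArg Subtype.val h)
    have h5 := diag F (h := g) (w := v) hzz h3 (fun c hc => H.conj_cb hv hvv hv1 (by rw [← hz]; exact hc))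
      (by rw [hz]; group) (acts_of_mem hv) (F.sols ⟨v, hv⟩ (Subtype.ext hvv) hv1') u hu
    rw [e1] at h5
    -- `v ∈ C(L)`
    apply hv1
    apply H.disj hv
    have h6 := inv_mem (h4 v hv)
    have e5 : v = (g⁻¹ * (u * z) ^ 2 * g)⁻¹ * (g⁻¹ * u * g * v * (g⁻¹ * u * g)⁻¹)⁻¹ := by
      have e3 : ((u * z) ^ 2)⁻¹ = z * u * z * u := by
        rw [pow_two, mul_inv_rev, mul_inv_rev, hzi, hui]; group
      have e6 : (g⁻¹ * (u * z) ^ 2 * g)⁻¹ = g⁻¹ * ((u * z) ^ 2)⁻¹ * g := by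
        rw [mul_inv_rev, mul_inv_rev, inv_inv]; group
      rw [e6, e3, hz]
      calc v = g⁻¹ * ((g * v * g⁻¹) * u * (g * v * g⁻¹) * u⁻¹) * g * (g⁻¹ * u * g * v * (g⁻¹ * u * g)⁻¹)⁻¹ := by
            group
        _ = _ := by rw [hui]
    rw [e5]
    exact mul_mem (inv_mem h5) h6

end NA

/-- All hypotheses. -/
structure Full (S L : Subgroup G) (x : G) : Prop extends Ctx S L x where
  syl : SylFacts L
  /-- (7) -/
  Cb : ∀ i ∈ L, i * i = 1 → i ≠ 1 → ∀ c, c * i = i * c → c ∈ normalizer (L : Set G)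

namespace Full

variable {S L : Subgroup G} {x : G} (H : Full S L x)
include H

theorem toNA : NA L x where
  toBase := H.toBase
  syl := H.syl
  Cb := H.Cb

/-- **(LINK)** -/
theorem link [Finite G] {g i : G} (hi : i ∈ L) (hii : i * i = 1) (hi1 : i ≠ 1) : Sim L (g * i * g⁻¹) := by
  obtain ⟨X, hX, F5⟩ := H.fct
  have F : Facts X := F5.toFacts
  obtain ⟨z, hz⟩ : ∃ z, z = g * i * g⁻¹ := ⟨_, rfl⟩
  rw [← hz]
  have hzS : z ∈ S := by rw [hz]; exact H.SN.conj_mem i (H.LS hi) g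
  have hzz : z * z = 1 := by
    rw [hz]
    calc g * i * g⁻¹ * (g * i * g⁻¹) = g * (i * i) * g⁻¹ := by group
      _ = 1 := by rw [hii]; group
  have hz1 : z ≠ 1 := by
    rw [hz]
    intro h
    apply hi1
    calc i = g⁻¹ * (g * i * g⁻¹) * g := by group
      _ = 1 := by rw [h]; group
  have hxx := H.xx
  have hxi := H.xi
  obtain ⟨r, hr⟩ : ∃ r, r = x * z := ⟨_, rfl⟩
  have hxr : ∀ i : ℕ, x * (r ^ i)⁻¹ = r ^ i * x := by
    intro i
    have h1 : x * r * x⁻¹ = r⁻¹ := by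
      have hzi : z⁻¹ = z := inv_eq_of_mul_eq_one_left hzz
      rw [hr, mul_inv_rev, hxi, hzi, ← mul_assoc, hxx, one_mul]
    have h2 : x * r ^ i * x⁻¹ = (r ^ i)⁻¹ := by rw [← conj_pow, h1, inv_pow]
    rw [← h2, hxi]
    calc x * (x * r ^ i * x) = (x * x) * r ^ i * x := by group
      _ = r ^ i * x := by rw [hxx, one_mul]
  have hconj : ∀ k : ℕ, x * ((r ^ k)⁻¹ * z * r ^ k) = r ^ (2 * k + 1) := by
    intro k
    calc x * ((r ^ k)⁻¹ * z * r ^ k) = (x * (r ^ k)⁻¹) * z * r ^ k := by group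
      _ = r ^ k * (x * z) * r ^ k := by rw [hxr]; group
      _ = r ^ (2 * k + 1) := by rw [← hr, ← pow_succ, ← pow_add]; congr 1; omega
  rcases Cfsg.Agent.UGT.Res.ThH.dih hxx hzz with ⟨c, -, hc⟩ | ⟨m, hm, hmo, hmx, hmz⟩
  · exfalso
    apply H.xS
    have : x = c⁻¹ * z * c⁻¹⁻¹ := by rw [← hc]; group
    rw [this]
    exact H.SN.conj_mem z hzS c⁻¹
  rw [← hr] at hm hmo hmx hmz
  obtain ⟨e, hedef⟩ : ∃ e, e = r ^ m := ⟨_, rfl⟩
  rw [← hedef] at hmo hmx hmz
  have hee : e * e = 1 := Cfsg.Agent.UGT.Res.ThH.sq hmo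
  have he1 : e ≠ 1 := Cfsg.Agent.UGT.Res.ThH.ne_one hmo
  have hm0 : 0 < m := by
    have := orderOf_pos r
    omega
  rcases Nat.even_or_odd m with hev | ⟨k, hk⟩
  · -- `m` even
    obtain ⟨a, b, hb, hab⟩ := Nat.exists_eq_two_pow_mul_odd (n := 2 * m) (by omega)
    obtain ⟨k, hk⟩ := hb
    have ha2 : 2 ≤ a := by
      obtain ⟨m', hm'⟩ := hev
      by_contra hlt
      have : a = 0 ∨ a = 1 := by omega
      rcases this with rfl | rfl
      · rw [pow_zero, one_mul] at hab; omega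
      · rw [pow_one] at hab; omega
    obtain ⟨a', rfl⟩ : ∃ a', a = a' + 2 := ⟨a - 2, by omega⟩
    obtain ⟨g1, hg1⟩ : ∃ g1, g1 = (r ^ k)⁻¹ * g := ⟨_, rfl⟩
    obtain ⟨z1, hz1'⟩ : ∃ z1, z1 = g1 * i * g1⁻¹ := ⟨_, rfl⟩
    have hz1r : z1 = (r ^ k)⁻¹ * z * r ^ k := by rw [hz1', hg1, hz]; group
    have hxz1 : x * z1 = r ^ b := by rw [hz1r, hconj, hk]
    have hz1z1 : z1 * z1 = 1 := by
      rw [hz1']
      calc g1 * i * g1⁻¹ * (g1 * i * g1⁻¹) = g1 * (i * i) * g1⁻¹ := by group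
        _ = 1 := by rw [hii]; group
    have hz1i : z1⁻¹ = z1 := inv_eq_of_mul_eq_one_left hz1z1
    -- `w = z1^x z1`
    have hw : x * z1 * x⁻¹ * z1 = r ^ (2 * b) := by
      rw [hxi, two_mul, pow_add, ← hxz1]; group
    have he2 : e = (x * z1 * x⁻¹ * z1) ^ 2 ^ a' := by
      rw [hw, ← pow_mul, hedef]
      congr 1
      have : 2 ^ (a' + 2) = 4 * 2 ^ a' := by rw [pow_add]; ring
      rw [this] at hab
      nlinarith
    obtain ⟨y, hy⟩ : ∃ y, y = g1⁻¹ * x * g1 := ⟨_, rfl⟩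
    have hyy : y * y = 1 := by
      rw [hy]
      calc g1⁻¹ * x * g1 * (g1⁻¹ * x * g1) = g1⁻¹ * (x * x) * g1 := by group
        _ = 1 := by rw [hxx]; group
    have h1 : Sim L y := by
      refine H.toNA.com (a' + 1) y i i hi hi hii hi1 hii hi1 ?_
      have h2 : i * (y * i * y⁻¹) = g1⁻¹ * (x * z1 * x⁻¹ * z1)⁻¹ * g1 := by
        have h3 : (x * z1 * x⁻¹ * z1)⁻¹ = z1 * (x * z1 * x⁻¹) := by
          rw [mul_inv_rev, hz1i]
          congr 1
          rw [mul_inv_rev, mul_inv_rev, hz1i, inv_inv]; group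
        rw [h3, hz1', hy]; group
      have h4 : g1⁻¹ * (x * z1 * x⁻¹ * z1)⁻¹ * g1 = g1⁻¹ * (x * z1 * x⁻¹ * z1)⁻¹ * g1⁻¹⁻¹ := by rw [inv_inv]
      rw [h2, h4, conj_pow, inv_pow, pow_succ, pow_mul, ← he2, pow_two, hee]
      group
    by_cases hyM : y ∈ normalizer (L : Set G)
    · -- `g1 ∈ N(L)`, `e ∈ L`
      have h2 : g1 ∈ normalizer (L : Set G) := H.fix (by rw [← hy]; exact hyM)
      have h3 : z1 ∈ L := by rw [hz1']; exact L_conj h2 hi
      have h4 : e ∈ L := by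
        rw [he2]
        exact pow_mem (mul_mem (L_conj H.xM h3) h3) _
      exact Or.inl (H.Cb e h4 hee he1 z hmz.symm)
    · have h2 := h1.resolve_left hyM
      -- the diagonal
      have h3 := diag F (h := g1⁻¹) (w := x) hyy h2 (fun c hc => H.Cx (by
          rw [inv_inv]
          rw [hy] at hc
          calc g1 * c * g1⁻¹ * x = g1 * (c * (g1⁻¹ * x * g1)) * g1⁻¹ := by group
            _ = g1 * ((g1⁻¹ * x * g1) * c) * g1⁻¹ := by rw [hc]
            _ = x * (g1 * c * g1⁻¹) := by group)) (by rw [hy]; group) hX F.solx i hi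
      have h4 : g1⁻¹⁻¹ * (i * (y * i * y⁻¹)) * g1⁻¹ = z1 * (x * z1 * x⁻¹) := by
        rw [hy, hz1']; group
      rw [h4] at h3
      have h5 : x * z1 * x⁻¹ * z1 = (z1 * (x * z1 * x⁻¹))⁻¹ := by
        rw [mul_inv_rev, mul_inv_rev, mul_inv_rev, hz1i, inv_inv]; group
      have h6 : e ∈ centralizer (L : Set G) := by
        rw [he2, h5]
        exact pow_mem (inv_mem h3) _
      have h7 : IsT L x e := ⟨h6, hmx, hee, he1⟩
      exact H.cmp e e z h7 h7 (by rw [← hmz]; group)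
  · -- `m` odd: `x e` is conjugate to `z`
    left
    have h1 : x * e = (r ^ k)⁻¹ * z * r ^ k := by
      rw [hedef, hk, ← hconj, ← mul_assoc, hxx, one_mul]
    have h2 : x * e ∈ S := by
      rw [h1]
      have := H.SN.conj_mem z hzS (r ^ k)⁻¹
      rwa [inv_inv] at this
    have h3 : x * e * (x * e) = 1 := by
      calc x * e * (x * e) = x * (e * x) * e := by group
        _ = (x * x) * (e * e) := by rw [hmx]; group
        _ = 1 := by rw [hxx, hee, one_mul]
    have h4 : x * e ≠ 1 := by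
      rw [h1]
      intro h
      apply hz1
      calc z = r ^ k * ((r ^ k)⁻¹ * z * r ^ k) * (r ^ k)⁻¹ := by group
        _ = 1 := by rw [h]; group
    have h5 : x * e * x = x * (x * e) := by rw [mul_assoc, hmx]
    have h6 : x * (x * e) = e := by rw [← mul_assoc, hxx, one_mul]
    rcases H.cls' h2 h5 h3 h4 with h7 | ⟨s, hs, t, ht, h7⟩
    · apply H.Ce (x * e) ⟨h7.mem, h7.comm, h7.sq⟩
      rw [h6]
      exact hmz.symm
    · apply H.Cxst hs ht
      have h8 : x * s * t = e := by rw [mul_assoc, ← h7, h6]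
      rw [h8]
      exact hmz.symm

/-- all conjugates of `L` are equal to `L` or commute with `L` -/
theorem all [Finite G] (g : G) : Sim L g := by
  by_contra hns
  obtain ⟨i, hi⟩ := H.exS
  have h1 := H.link (g := g) hi.mem hi.sq hi.ne
  have h2 := h1.resolve_left fun h => hns (H.toNA.na hi.mem hi.sq hi.ne h)
  apply hns
  refine H.toNA.com 2 g i i hi.mem hi.mem hi.sq hi.ne hi.sq hi.ne ?_
  obtain ⟨z, hz⟩ : ∃ z, z = g * i * g⁻¹ := ⟨_, rfl⟩
  rw [← hz] at h2 ⊢
  have hzz : z * z = 1 := by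
    rw [hz]
    calc g * i * g⁻¹ * (g * i * g⁻¹) = g * (i * i) * g⁻¹ := by group
      _ = 1 := by rw [hi.sq]; group
  have hzi : z⁻¹ = z := inv_eq_of_mul_eq_one_left hzz
  have h3 := comm_of_mem hi.mem (h2 i hi.mem)
  rw [hzi] at h3
  calc (i * z) ^ 2 ^ 2 = i * ((z * i * z) * i) * (z * i * z) := by
        rw [show (2 : ℕ) ^ 2 = 4 by norm_num, pow_succ, pow_succ, pow_two]; group
    _ = i * (i * (z * i * z)) * (z * i * z) := by rw [h3]
    _ = (i * i) * z * i * (z * z) * i * z := by group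
    _ = z * (i * i) * z := by rw [hi.sq, hzz, one_mul, mul_one, ← hi.sq]; group
    _ = 1 := by rw [hi.sq, mul_one, hzz]

/-- **THEOREM E for `L₃(4)`, paired, `x ∉ S`** -/
theorem false_of [Finite G] (hS : IsSimpleGroup S) : False := by
  obtain ⟨t, ht⟩ := H.four
  obtain ⟨N, hN⟩ : ∃ N : Subgroup G, N = closure {w | ∃ g : G, ∃ l ∈ L, w = g * l * g⁻¹} := ⟨_, rfl⟩
  have hNn : ∀ h, ∀ n ∈ N, h * n * h⁻¹ ∈ N := by
    intro h n hn
    have h1 : N ≤ N.comap (MulAut.conj h).toMonoidHom := by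
      nth_rewrite 1 [hN]
      rw [closure_le]
      rintro _ ⟨g, l, hl, rfl⟩
      rw [SetLike.mem_coe, mem_comap]
      change h * (g * l * g⁻¹) * h⁻¹ ∈ N
      rw [hN]
      exact Subgroup.subset_closure ⟨h * g, l, hl, by group⟩
    exact h1 hn
  have hNS : N ≤ S := by
    rw [hN, closure_le]
    rintro _ ⟨g, l, hl, rfl⟩
    exact H.SN.conj_mem l (H.LS hl) g
  have hNM : N ≤ normalizer (L : Set G) := by
    rw [hN, closure_le]
    rintro _ ⟨g, l, hl, rfl⟩
    rcases H.all g with h | h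
    · exact L_le_M (L_conj h hl)
    · exact K_le_M (h l hl)
  have hLN : L ≤ N := by
    intro l hl
    rw [hN]
    exact Subgroup.subset_closure ⟨1, l, hl, by group⟩
  obtain ⟨l0, hl0, hl01⟩ := H.exists_ne'
  -- `N = S`
  have h1 : (N.subgroupOf S).Normal := ⟨fun n hn s => by
    rw [mem_subgroupOf] at hn ⊢
    exact hNn s n hn⟩
  have hSN : S ≤ N := by
    rcases hS.eq_bot_or_eq_top_of_normal _ h1 with h | h
    · exfalso
      apply hl01
      have h2 : (⟨l0, H.LS hl0⟩ : S) ∈ N.subgroupOf S := hLN hl0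
      rw [h, mem_bot] at h2
      exact congrArg Subtype.val h2
    · exact subgroupOf_eq_top.mp h
  -- `L = S`
  have h2 : (L.subgroupOf S).Normal := ⟨fun n hn s => by
    rw [mem_subgroupOf] at hn ⊢
    exact L_conj (hNM (hSN s.2)) hn⟩
  have hSL : S ≤ L := by
    rcases hS.eq_bot_or_eq_top_of_normal _ h2 with h | h
    · exfalso
      apply hl01
      have h3 : (⟨l0, H.LS hl0⟩ : S) ∈ L.subgroupOf S := hl0
      rw [h, mem_bot] at h3
      exact congrArg Subtype.val h3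
    · exact subgroupOf_eq_top.mp h
  exact ht.ne (H.disj (hSL (H.tS t ht)) ht.mem)

end Full

end Cfsg.Agent.UGT.ThEP
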