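import Cfsg.Agent.UGT.ThEP.Six
import Cfsg.Agent.UGT.ThEL34.End

/-!
# Theorem E for `L = L₃(4)`, paired case, `x ∉ X`: `C(s) ≤ M` for the involutions `s` of `L`, I
-/

set_option autoImplicit false

open Subgroup

namespace Cfsg.Agent.UGT.ThEP

open Cfsg.Agent.UGT.ThE
open Cfsg.Agent.UGT.ThE.Base (comm_of_mem L_conj L_conj' K_le_M L_le_M K_conj K_conj' IsT IsS IsT1 exists_central
  exists_sqrt)
open Cfsg.Agent.UGT.ThEL34
open Cfsg.Agent.UGT.ThEL34.Out (comm_of_fix)
open Cfsg.Agent.UGT.CE.L34 (Facts3 Facts4 YY mem_YY)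

variable {G : Type*} [Group G]

theorem inv_comm {m t : G} (hm : m * t = t * m) : m⁻¹ * t = t * m⁻¹ := by
  calc m⁻¹ * t = m⁻¹ * (t * m) * m⁻¹ := by group
    _ = m⁻¹ * (m * t) * m⁻¹ := by rw [hm]
    _ = _ := by group

theorem cj_of_comm {m t : G} (hm : m * t = t * m) : m * t * m⁻¹ = t := by rw [hm]; group

namespace Base

variable {L : Subgroup G} {x : G} (H : Base L x)
include H

/-- a second involution -/
theorem exists_snd {v : G} (hvT : IsT L x v) :
    ∃ u, IsT L x u ∧ v * u = u * v ∧ IsT L x (v * u) := by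
  obtain ⟨u, hu, huv, hc⟩ := H.rk v hvT
  refine ⟨u, hu, hc.symm, (hvT.isT1.mul hu.isT1 hc.symm).isT ?_⟩
  intro h
  apply huv
  rw [eq_inv_of_mul_eq_one_left h, inv_eq_of_mul_eq_one_left hu.sq]

/-- `m L m⁻¹` is not in `M` -/
theorem noLm [Finite G] {s m : G} (hsL : s ∈ L) (hs1 : s ≠ 1) (hm : m * s = s * m)
    (hmM : m ∉ normalizer (L : Set G)) (h : ∀ l ∈ L, m * l * m⁻¹ ∈ normalizer (L : Set G)) : False := by
  rcases H.star h with h1 | h1
  · exact hmM h1
  · have h2 := h1 s hsL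
    rw [cj_of_comm hm] at h2
    exact hs1 (H.disj hsL h2)

/-- KEY TRICK, 1 -/
theorem key1 {s v m p : G} (hs : s ∈ L) (hm : m * s = s * m) (hv : IsT L x v)
    (hpv : (m * p * m⁻¹) * v = v * (m * p * m⁻¹)) :
    m * (p * s * p⁻¹) * m⁻¹ ∈ normalizer (L : Set G) := by
  have h1 : m * (p * s * p⁻¹) * m⁻¹ = (m * p * m⁻¹) * s * (m * p * m⁻¹)⁻¹ := by
    calc m * (p * s * p⁻¹) * m⁻¹ = (m * p * m⁻¹) * (m * s * m⁻¹) * (m * p * m⁻¹)⁻¹ := by group
      _ = _ := by rw [cj_of_comm hm]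
  rw [h1]
  rcases H.cmp v v (m * p * m⁻¹) hv hv (cj_of_comm hpv) with h | h
  · exact L_le_M (L_conj h hs)
  · exact K_le_M (h s hs)

/-- KEY TRICK, 2 -/
theorem key2 {s v m p : G} (hs : s ∈ L) (hs1 : s ≠ 1) (hm : m * s = s * m) (hv : IsT L x v)
    (hpv : (m * p * m⁻¹) * v = v * (m * p * m⁻¹)) (hps : p * s = s * p) :
    m * p * m⁻¹ ∈ normalizer (L : Set G) := by
  rcases H.cmp v v (m * p * m⁻¹) hv hv (cj_of_comm hpv) with h | h
  · exact h
  · exfalso
    have h1 : (m * p * m⁻¹) * s * (m * p * m⁻¹)⁻¹ = s := by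
      calc (m * p * m⁻¹) * s * (m * p * m⁻¹)⁻¹ = (m * p * m⁻¹) * (m * s * m⁻¹) * (m * p * m⁻¹)⁻¹ := by
            rw [cj_of_comm hm]
        _ = m * (p * s * p⁻¹) * m⁻¹ := by group
        _ = s := by rw [cj_of_comm hps, cj_of_comm hm]
    have h2 := h s hs
    rw [h1] at h2
    exact hs1 (H.disj hs h2)

/-- (a) no `v` acts trivially -/
theorem notK [Finite G] {s m v : G} (hs : s ∈ L) (hs1 : s ≠ 1) (hm : m * s = s * m)
    (hmM : m ∉ normalizer (L : Set G)) (hv : IsT L x v) : m⁻¹ * v * m ∉ centralizer (L : Set G) := by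
  intro h
  apply H.noLm hs hs1 hm hmM
  refine H.le_of_conj (P := fun l => m * l * m⁻¹ ∈ normalizer (L : Set G)) (S := {s}) ?_ ?_ ?_ ?_ ⟨s, rfl, hs1⟩ ?_
  · change m * 1 * m⁻¹ ∈ _
    rw [mul_one, mul_inv_cancel]
    exact one_mem _
  · intro a _ b _ h1 h2
    have h3 : m * (a * b) * m⁻¹ = (m * a * m⁻¹) * (m * b * m⁻¹) := by group
    change m * (a * b) * m⁻¹ ∈ _
    rw [h3]
    exact mul_mem h1 h2
  · intro a _ h1
    have h3 : m * a⁻¹ * m⁻¹ = (m * a * m⁻¹)⁻¹ := by group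
    change m * a⁻¹ * m⁻¹ ∈ _
    rw [h3]
    exact inv_mem h1
  · intro s' hs'
    rw [Set.mem_singleton_iff] at hs'
    rw [hs']
    exact hs
  · intro l hl s' hs'
    rw [Set.mem_singleton_iff] at hs'
    rw [hs']
    apply H.key1 hs hm hv
    have h1 := comm_of_mem hl h
    calc m * l * m⁻¹ * v = m * (l * (m⁻¹ * v * m)) * m⁻¹ := by group
      _ = m * (m⁻¹ * v * m * l) * m⁻¹ := by rw [h1]
      _ = v * (m * l * m⁻¹) := by group

/-- `s` inverts the elements of order 3 commuting with `x s` -/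
theorem inv' {s y : G} (hs : IsS L x s) (hyL : y ∈ L) (hy3 : y ^ 3 = 1) (hy : y * (x * s) = x * s * y) :
    s * y * s⁻¹ = y⁻¹ := by
  obtain ⟨l, hl, h⟩ := H.conjS hs
  have hsx : s * (x * s) = x * s * s := by
    calc s * (x * s) = (s * x) * s := by group
      _ = x * s * s := by rw [hs.comm]
  have hS : IsS L x (l * s * l⁻¹) := by
    refine ⟨mul_mem (mul_mem hl hs.mem) (inv_mem hl), ?_, ?_, ?_⟩
    · calc l * s * l⁻¹ * x = l * s * l⁻¹ * (l * (x * s) * l⁻¹) := by rw [h]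
        _ = l * (s * (x * s)) * l⁻¹ := by group
        _ = l * (x * s * s) * l⁻¹ := by rw [hsx]
        _ = (l * (x * s) * l⁻¹) * (l * s * l⁻¹) := by group
        _ = x * (l * s * l⁻¹) := by rw [h]
    · calc l * s * l⁻¹ * (l * s * l⁻¹) = l * (s * s) * l⁻¹ := by group
        _ = 1 := by rw [hs.sq]; group
    · intro h1
      apply hs.ne
      calc s = l⁻¹ * (l * s * l⁻¹) * l := by group
        _ = 1 := by rw [h1]; group
  have h1 := H.invY hS (y := l * y * l⁻¹) (H.memY.mpr ⟨mul_mem (mul_mem hl hyL) (inv_mem hl), by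
      calc (l * y * l⁻¹) ^ 3 = l * y ^ 3 * l⁻¹ := by rw [pow_three, pow_three]; group
        _ = 1 := by rw [hy3]; group, by
      calc l * y * l⁻¹ * x = l * y * l⁻¹ * (l * (x * s) * l⁻¹) := by rw [h]
        _ = l * (y * (x * s)) * l⁻¹ := by group
        _ = l * (x * s * y) * l⁻¹ := by rw [hy]
        _ = (l * (x * s) * l⁻¹) * (l * y * l⁻¹) := by group
        _ = x * (l * y * l⁻¹) := by rw [h]⟩)
  calc s * y * s⁻¹ = l⁻¹ * (l * s * l⁻¹ * (l * y * l⁻¹) * (l * s * l⁻¹)⁻¹) * l := by group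
    _ = l⁻¹ * (l * y * l⁻¹)⁻¹ * l := by rw [h1]
    _ = y⁻¹ := by group

/-- the wild elements -/
theorem J_le [Finite G] {X : MulAut L} (F : Facts X) {s m v : G} (hs : IsS L x s) (hm : m * s = s * m)
    (hv : IsT L x v) {a : MulAut L} (ha : Acts L (m⁻¹ * v * m) a) (hw : Wild X a) {j : L} (hj : a j = j) :
    m * (j : G) * m⁻¹ ∈ normalizer (L : Set G) := by
  have hsv : v * s = s * v := (comm_of_mem hs.mem hv.mem).symm
  have has : a ⟨s, hs.mem⟩ = ⟨s, hs.mem⟩ := by
    rw [ha.fix_iff]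
    change m⁻¹ * v * m * s = s * (m⁻¹ * v * m)
    calc m⁻¹ * v * m * s = m⁻¹ * v * (m * s) := by group
      _ = m⁻¹ * (v * s) * m := by rw [hm]; group
      _ = (m⁻¹ * s) * v * m := by rw [hsv]; group
      _ = s * (m⁻¹ * v * m) := by rw [inv_comm hm]; group
  obtain ⟨N, hN⟩ : ∃ N : Subgroup (fx a), N = normalClosure {⟨⟨s, hs.mem⟩, has⟩} := ⟨_, rfl⟩
  have hNn : N.Normal := hN ▸ inferInstance
  have hsimp := F.wsimp a hw
  have hNt : N = ⊤ := by
    rcases hsimp.eq_bot_or_eq_top_of_normal N hNn with h | h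
    · exfalso
      have h1 : (⟨⟨s, hs.mem⟩, has⟩ : fx a) ∈ N := by
        rw [hN]; exact subset_normalClosure (Set.mem_singleton _)
      rw [h, mem_bot] at h1
      exact hs.ne (congrArg (fun z : fx a => ((z : L) : G)) h1)
    · exact h
  have key : ∀ n : fx a, n ∈ N → m * ((n : L) : G) * m⁻¹ ∈ normalizer (L : Set G) := by
    intro n hn
    rw [hN, normalClosure] at hn
    induction hn using closure_induction with
    | mem n hn =>
      obtain ⟨b, hb, hbn⟩ := Group.mem_conjugatesOfSet_iff.mp hn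
      rw [Set.mem_singleton_iff] at hb
      rw [hb] at hbn
      obtain ⟨c, hc⟩ := isConj_iff.mp hbn
      have h1 : ((n : L) : G) = ((c : L) : G) * s * ((c : L) : G)⁻¹ :=
        (congrArg (fun z : fx a => ((z : L) : G)) hc).symm
      rw [h1]
      exact H.key1 hs.mem hm hv (comm_of_fix ha c.2)
    | one =>
      have h1 : m * (((1 : fx a) : L) : G) * m⁻¹ = 1 := by
        change m * 1 * m⁻¹ = 1
        group
      rw [h1]
      exact one_mem _
    | mul b c _ _ hb hc =>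
      have h1 : m * (((b * c : fx a) : L) : G) * m⁻¹ =
          (m * ((b : L) : G) * m⁻¹) * (m * ((c : L) : G) * m⁻¹) := by
        change m * (((b : L) : G) * ((c : L) : G)) * m⁻¹ = _
        group
      rw [h1]
      exact mul_mem hb hc
    | inv b _ hb =>
      have h1 : m * (((b⁻¹ : fx a) : L) : G) * m⁻¹ = (m * ((b : L) : G) * m⁻¹)⁻¹ := by
        change m * (((b : L) : G)⁻¹) * m⁻¹ = _
        group
      rw [h1]
      exact inv_mem hb
  exact key ⟨j, hj⟩ (hNt ▸ mem_top _)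

/-- the inner elements -/
theorem P_le {X : MulAut L} (F : Facts5 X) {s m v : G} (hs : IsS L x s) (hm : m * s = s * m)
    (hv : IsT L x v) {i : L} (hi : Acts L (m⁻¹ * v * m) (MulAut.conj i)) (hii : i * i = 1) (hi1 : i ≠ 1)
    {p : L} (hp : p * i = i * p) : m * (p : G) * m⁻¹ ∈ normalizer (L : Set G) := by
  obtain ⟨s', hs'⟩ : ∃ s' : L, s' = ⟨s, hs.mem⟩ := ⟨_, rfl⟩
  have hs'G : (s' : G) = s := by rw [hs']
  have hss : s' * s' = 1 := Subtype.ext (by
    change (s' : G) * s' = 1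
    rw [hs'G]; exact hs.sq)
  have hs1 : s' ≠ 1 := fun h => hs.ne (by rw [← hs'G, h]; rfl)
  have hsv : v * s = s * v := (comm_of_mem hs.mem hv.mem).symm
  have hsi : s' * i = i * s' := by
    have h1 : MulAut.conj i s' = s' := by
      rw [hi.fix_iff, hs'G]
      calc m⁻¹ * v * m * s = m⁻¹ * v * (m * s) := by group
        _ = m⁻¹ * (v * s) * m := by rw [hm]; group
        _ = (m⁻¹ * s) * v * m := by rw [hsv]; group
        _ = s * (m⁻¹ * v * m) := by rw [inv_comm hm]; group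
    rw [MulAut.conj_apply] at h1
    exact (mul_inv_eq_iff_eq_mul.mp h1).symm
  -- elements of `C_L(i)`
  have hcv : ∀ q : L, q * i = i * q → (m * (q : G) * m⁻¹) * v = v * (m * (q : G) * m⁻¹) := by
    intro q hq
    apply comm_of_fix hi
    rw [MulAut.conj_apply, ← hq, mul_inv_cancel_right]
  by_cases hcen : ∃ q, q * i = i * q ∧ q * s' ≠ s' * q
  · -- dichotomy for `z q = s (q s q⁻¹)`
    have hd : ∀ q : L, q * i = i * q → (m * (q : G) * m⁻¹ ∈ normalizer (L : Set G) ∧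
        m * ((s' * (q * s' * q⁻¹) : L) : G) * m⁻¹ ∈ L) ∨
        (m * (q : G) * m⁻¹ ∉ normalizer (L : Set G) ∧
        s * (m * ((s' * (q * s' * q⁻¹) : L) : G) * m⁻¹) ∈ centralizer (L : Set G)) := by
      intro q hq
      obtain ⟨c, hc⟩ : ∃ c, c = m * (q : G) * m⁻¹ := ⟨_, rfl⟩
      have h1 : m * ((s' * (q * s' * q⁻¹) : L) : G) * m⁻¹ = s * (c * s * c⁻¹) := by
        have h2 : ((s' * (q * s' * q⁻¹) : L) : G) = s * ((q : G) * s * (q : G)⁻¹) := by
          rw [← hs'G]; rfl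
        rw [h2, hc]
        calc m * (s * ((q : G) * s * (q : G)⁻¹)) * m⁻¹ = (m * s) * ((q : G) * s * (q : G)⁻¹ * m⁻¹) := by group
          _ = (s * m) * ((q : G) * s * (q : G)⁻¹ * m⁻¹) := by rw [hm]
          _ = s * (m * (q : G) * m⁻¹ * (m * s * m⁻¹) * (m * (q : G) * m⁻¹)⁻¹) := by group
          _ = _ := by rw [cj_of_comm hm]
      rw [← hc, h1]
      rcases H.cmp v v c hv hv (cj_of_comm (hc ▸ hcv q hq)) with h | h
      · exact Or.inl ⟨h, mul_mem hs.mem (L_conj h hs.mem)⟩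
      · right
        refine ⟨fun h2 => H.self h2 h, ?_⟩
        rw [← mul_assoc, hs.sq, one_mul]
        exact h s hs.mem
    by_contra hpM
    obtain ⟨q, hqi, hq1, hq2⟩ := F.p6 i s' hii hi1 hss hs1 hsi hcen p hp
    -- multiplicativity of `z`
    have hz : s' * (p * q * s' * (p * q)⁻¹) = (s' * (p * s' * p⁻¹)) * (s' * (q * s' * q⁻¹)) := by
      have h1 := F.p4 i hii hi1 s' q p hsi hqi hp
      -- `s q s q⁻¹` commutes with `p`
      have h2 : s'⁻¹ = s' := inv_eq_of_mul_eq_one_left hss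
      rw [h2] at h1
      have h3 : p * (s' * (q * s' * q⁻¹)) * p⁻¹ = s' * (q * s' * q⁻¹) := by
        calc p * (s' * (q * s' * q⁻¹)) * p⁻¹ = p * (s' * q * s' * q⁻¹) * p⁻¹ := by group
          _ = (s' * q * s' * q⁻¹ * p) * p⁻¹ := by rw [h1]
          _ = _ := by group
      calc s' * (p * q * s' * (p * q)⁻¹) = s' * (p * (s'⁻¹ * (s' * (q * s' * q⁻¹))) * p⁻¹) := by group
        _ = s' * ((p * s' * p⁻¹) * (p * (s' * (q * s' * q⁻¹)) * p⁻¹)) := by rw [h2]; group
        _ = s' * ((p * s' * p⁻¹) * (s' * (q * s' * q⁻¹))) := by rw [h3]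
        _ = _ := by group
    obtain ⟨zp, hzp⟩ : ∃ z, z = m * ((s' * (p * s' * p⁻¹) : L) : G) * m⁻¹ := ⟨_, rfl⟩
    obtain ⟨zq, hzq⟩ : ∃ z, z = m * ((s' * (q * s' * q⁻¹) : L) : G) * m⁻¹ := ⟨_, rfl⟩
    have hzpq : m * ((s' * (p * q * s' * (p * q)⁻¹) : L) : G) * m⁻¹ = zp * zq := by
      rw [hz, hzp, hzq, Subgroup.coe_mul]; group
    have hpq : (p * q) * i = i * (p * q) := by
      calc p * q * i = p * (q * i) := by group
        _ = (p * i) * q := by rw [hqi]; group
        _ = i * (p * q) := by rw [hp]; group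
    have hdp := (hd p hp).resolve_left (fun h => hpM h.1)
    rw [← hzp] at hdp
    -- `zq ≠ 1`, `zq ≠ zp`
    have hzq1 : zq ≠ 1 := by
      intro h
      apply hq1
      have h1 : ((s' * (q * s' * q⁻¹) : L) : G) = 1 := by
        calc ((s' * (q * s' * q⁻¹) : L) : G) = m⁻¹ * zq * m := by rw [hzq]; group
          _ = 1 := by rw [h]; group
      have h2 : s' * (q * s' * q⁻¹) = 1 := Subtype.ext h1
      rw [eq_inv_of_mul_eq_one_right h2, inv_eq_of_mul_eq_one_left hss]
    have hzpq' : zq ≠ zp := by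
      intro h
      apply hq2
      rw [hzq, hzp] at h
      have h1 : ((s' * (q * s' * q⁻¹) : L) : G) = ((s' * (p * s' * p⁻¹) : L) : G) :=
        mul_left_cancel (mul_right_cancel h)
      have h2 : s' * (q * s' * q⁻¹) = s' * (p * s' * p⁻¹) := Subtype.ext h1
      exact mul_left_cancel h2
    -- `zp⁻¹ = zp`
    have hzz : zp * zp = 1 := by
      have h1 : (s' * (p * s' * p⁻¹)) * (s' * (p * s' * p⁻¹)) = 1 := by
        apply F.p4' i hii hi1
        · calc s' * (p * s' * p⁻¹) * i = s' * p * s' * (p⁻¹ * i) := by group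
            _ = s' * p * (s' * i) * p⁻¹ := by rw [inv_comm hp]; group
            _ = s' * (p * i) * s' * p⁻¹ := by rw [hsi]; group
            _ = (s' * i) * p * s' * p⁻¹ := by rw [hp]; group
            _ = i * (s' * (p * s' * p⁻¹)) := by rw [hsi]; group
        · intro r hr
          have h2 := F.p4 i hii hi1 s' p r hsi hp hr
          have h3 : s'⁻¹ = s' := inv_eq_of_mul_eq_one_left hss
          rw [h3] at h2
          calc r * (s' * (p * s' * p⁻¹)) = r * (s' * p * s' * p⁻¹) := by group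
            _ = (s' * p * s' * p⁻¹) * r := by rw [h2]
            _ = _ := by group
      have h2 := congrArg (fun z : L => m * (z : G) * m⁻¹) h1
      simp only [Subgroup.coe_mul, OneMemClass.coe_one] at h2
      rw [hzp]
      calc m * ((s' * (p * s' * p⁻¹) : L) : G) * m⁻¹ * (m * ((s' * (p * s' * p⁻¹) : L) : G) * m⁻¹)
          = m * ((s' * (p * s' * p⁻¹) : L) : G) * ((s' * (p * s' * p⁻¹) : L) : G) * m⁻¹ := by group
        _ = 1 := by
          have h3 := congrArg Subtype.val h1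
          change ((s' * (p * s' * p⁻¹) : L) : G) * ((s' * (p * s' * p⁻¹) : L) : G) = 1 at h3
          rw [mul_assoc m, h3]; group
    have hzpi : zp⁻¹ = zp := inv_eq_of_mul_eq_one_left hzz
    have hsinv : s⁻¹ = s := inv_eq_of_mul_eq_one_left hs.sq
    have hsK : ∀ k ∈ centralizer (L : Set G), s * k = k * s := fun k hk => comm_of_mem hs.mem hk
    rcases hd q hqi with ⟨hq3, hq4⟩ | ⟨hq3, hq4⟩
    · -- `p q ∉ N`
      rw [← hzq] at hq4
      rcases hd (p * q) hpq with ⟨h1, -⟩ | ⟨-, h1⟩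
      · apply hpM
        have h2 : m * (p : G) * m⁻¹ = (m * ((p * q : L) : G) * m⁻¹) * (m * (q : G) * m⁻¹)⁻¹ := by
          rw [Subgroup.coe_mul]; group
        rw [h2]
        exact mul_mem h1 (inv_mem hq3)
      · rw [hzpq] at h1
        apply hzq1
        apply H.disj hq4
        have h2 : zq = (s * zp)⁻¹ * (s * (zp * zq)) := by group
        rw [h2]
        exact mul_mem (inv_mem hdp.2) h1
    · rw [← hzq] at hq4
      -- `zp zq ∈ K`
      have h1 : zp * zq ∈ centralizer (L : Set G) := by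
        have h2 : zp * zq = (s * zp) * (s * zq) := by
          have h3 := hsK _ hdp.2
          calc zp * zq = s⁻¹ * (s * zp) * zq := by group
            _ = (s * (s * zp)) * zq := by rw [hsinv]
            _ = (s * zp * s) * zq := by rw [h3]
            _ = _ := by group
        rw [h2]
        exact mul_mem hdp.2 hq4
      rcases hd (p * q) hpq with ⟨-, h2⟩ | ⟨-, h2⟩
      · rw [hzpq] at h2
        have h3 := H.disj h2 h1
        apply hzpq'
        rw [eq_inv_of_mul_eq_one_right h3, hzpi]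
      · rw [hzpq] at h2
        apply hs.ne
        apply H.disj hs.mem
        have h3 : s = (s * (zp * zq)) * (zp * zq)⁻¹ := by group
        rw [h3]
        exact mul_mem h2 (inv_mem h1)
  · push Not at hcen
    apply H.key2 hs.mem hs.ne hm hv (hcv p hp)
    have h1 := congrArg Subtype.val (hcen p hp)
    rw [← hs'G]
    exact h1

end Base

namespace Ctx

variable {S L : Subgroup G} {x : G} (H : Ctx S L x)
include H

/-- `W₀ ≤ M` -/
theorem e6s [Finite G] {s v c : G} (hs : IsS L x s) (hv : IsT L x v) (hc : c * s = s * c) :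
    c * v * c⁻¹ ∈ normalizer (L : Set G) := by
  have hvs : v * s = s * v := (comm_of_mem hs.mem hv.mem).symm
  rcases H.e6 (t₁ := 1) (m := c) hs H.one_isT1 hv (by rw [mul_one]; exact hvs) (by rw [mul_one]; exact hc) with
    h | h
  · exact h
  · exfalso
    have h1 : (c * v * c⁻¹) * s = s * (c * v * c⁻¹) := by
      calc c * v * c⁻¹ * s = c * v * (c⁻¹ * s) := by group
        _ = c * (v * s) * c⁻¹ := by rw [inv_comm hc]; group
        _ = (c * s) * v * c⁻¹ := by rw [hvs]; group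
        _ = s * (c * v * c⁻¹) := by rw [hc]; group
    have h2 := h s hs.mem
    rw [cj_of_comm h1] at h2
    exact hs.ne (H.disj hs.mem h2)

/-- (b), first part: no `v` acts as `s` -/
theorem notS [Finite G] {s m v : G} (hs : IsS L x s) (hm : m * s = s * m)
    (hmM : m ∉ normalizer (L : Set G)) (hv : IsT L x v) : m⁻¹ * v * m * s ∉ centralizer (L : Set G) := by
  intro hvs
  obtain ⟨X, hX, F⟩ := H.fct
  have hsv : s * v = v * s := comm_of_mem hs.mem hv.mem
  obtain ⟨v', hv'⟩ : ∃ v', v' = m⁻¹ * v * m := ⟨_, rfl⟩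
  rw [← hv'] at hvs
  have hmi := inv_comm hm
  have hsinv : s⁻¹ = s := inv_eq_of_mul_eq_one_left hs.sq
  -- the conjugates of `s`
  have h1 : ∀ l ∈ L, m * (l * s * l⁻¹) * m⁻¹ ∈ normalizer (L : Set G) ∨
      ∀ a ∈ L, (m * (l * s * l⁻¹) * m⁻¹) * a * (m * (l * s * l⁻¹) * m⁻¹)⁻¹ ∈ centralizer (L : Set G) := by
    intro l hl
    have e0 : m⁻¹ * (s * v) * m = v' * s := by
      calc m⁻¹ * (s * v) * m = (m⁻¹ * s) * v * m := by group
        _ = s * (m⁻¹ * v * m) := by rw [hmi]; group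
        _ = s * v' := by rw [hv']
        _ = s * (v' * s) * s⁻¹ := by group
        _ = (v' * s) * s * s⁻¹ := by rw [comm_of_mem hs.mem hvs]
        _ = v' * s := by group
    have hvm : (m * l * m⁻¹) * (s * v) = s * v * (m * l * m⁻¹) := by
      have h2 := comm_of_mem hl hvs
      rw [← e0] at h2
      calc m * l * m⁻¹ * (s * v) = m * (l * (m⁻¹ * (s * v) * m)) * m⁻¹ := by group
        _ = m * (m⁻¹ * (s * v) * m * l) * m⁻¹ := by rw [h2]
        _ = _ := by group
    have h2 := H.e6 (t₁ := v) (m := m * l * m⁻¹) hs hv.isT1 hv (by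
      calc v * (s * v) = (v * s) * v := by group
        _ = s * v * v := by rw [← hsv]) hvm
    -- `z = m (l s l⁻¹) m⁻¹ * (v s)`
    have h3 : m * l * m⁻¹ * v * (m * l * m⁻¹)⁻¹ = (m * (l * s * l⁻¹) * m⁻¹) * (s * v) := by
      have h4 : v = (m * s * m⁻¹) * (s * v) := by
        rw [cj_of_comm hm, ← mul_assoc, hs.sq, one_mul]
      calc m * l * m⁻¹ * v * (m * l * m⁻¹)⁻¹
          = m * l * m⁻¹ * ((m * s * m⁻¹) * (s * v)) * (m * l * m⁻¹)⁻¹ := by rw [← h4]
        _ = m * l * s * m⁻¹ * ((s * v) * (m * l * m⁻¹)⁻¹) := by group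
        _ = m * l * s * m⁻¹ * ((m * l * m⁻¹)⁻¹ * (s * v)) := by rw [inv_comm hvm]
        _ = _ := by group
    have hsvM : s * v ∈ normalizer (L : Set G) := mul_mem (L_le_M hs.mem) (K_le_M hv.mem)
    rw [h3] at h2
    rcases h2 with h2 | h2
    · left
      have h4 : m * (l * s * l⁻¹) * m⁻¹ = (m * (l * s * l⁻¹) * m⁻¹) * (s * v) * (s * v)⁻¹ := by group
      rw [h4]
      exact mul_mem h2 (inv_mem hsvM)
    · right
      intro a ha
      have h4 := h2 _ (L_conj' hsvM ha)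
      have h5 : m * (l * s * l⁻¹) * m⁻¹ * (s * v) * ((s * v)⁻¹ * a * (s * v)) *
          (m * (l * s * l⁻¹) * m⁻¹ * (s * v))⁻¹ =
          (m * (l * s * l⁻¹) * m⁻¹) * a * (m * (l * s * l⁻¹) * m⁻¹)⁻¹ := by group
      rw [h5] at h4
      exact h4
  -- elements inverted by `s`
  have h2 : ∀ y ∈ L, y ^ 3 = 1 → s * y * s⁻¹ = y⁻¹ → m * (s * y) * m⁻¹ ∈ normalizer (L : Set G) := by
    intro y hy hy3 hsy
    have e1 : y * s * y⁻¹ = s * y := by
      calc y * s * y⁻¹ = y * s * y⁻¹ * s⁻¹ * s := by group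
        _ = y * (s * y * s⁻¹)⁻¹ * s := by group
        _ = y * y * s := by rw [hsy, inv_inv]
        _ = (y ^ 3) * (y⁻¹ * s) := by rw [pow_three]; group
        _ = y⁻¹ * s := by rw [hy3, one_mul]
        _ = (s * y * s⁻¹) * s := by rw [hsy]
        _ = s * y := by group
    rcases h1 y hy with h3 | h3
    · rw [e1] at h3
      exact h3
    · exfalso
      rw [e1] at h3
      have h4 := h3 s hs.mem
      -- `w s w⁻¹ = s y⁻¹`
      have e2 : m * (s * y) * m⁻¹ * s * (m * (s * y) * m⁻¹)⁻¹ = m * (s * y⁻¹) * m⁻¹ := by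
        calc m * (s * y) * m⁻¹ * s * (m * (s * y) * m⁻¹)⁻¹
            = m * (s * y) * (m⁻¹ * s) * m * (s * y)⁻¹ * m⁻¹ := by group
          _ = m * (s * (y * s * y⁻¹)) * s⁻¹ * m⁻¹ := by rw [hmi]; group
          _ = m * (s * (s * y * s⁻¹)) * m⁻¹ := by rw [e1]; group
          _ = m * (s * y⁻¹) * m⁻¹ := by rw [hsy]
      rw [e2] at h4
      -- it commutes with `s`
      have h5 : s * (m * (s * y⁻¹) * m⁻¹) = m * (s * y⁻¹) * m⁻¹ * s := comm_of_mem hs.mem h4
      have h6 : s * (s * y⁻¹) = (s * y⁻¹) * s := by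
        calc s * (s * y⁻¹) = (s * m⁻¹) * (m * (s * y⁻¹) * m⁻¹) * m := by
              rw [← hmi]
              have : m⁻¹ * s * (m * (s * y⁻¹) * m⁻¹) * m = (m⁻¹ * s * m) * (s * y⁻¹) := by group
              rw [this]
              have e3 : m⁻¹ * s * m = s := by rw [hmi]; group
              rw [e3]
          _ = m⁻¹ * (s * (m * (s * y⁻¹) * m⁻¹)) * m := by rw [← hmi]; group
          _ = m⁻¹ * (m * (s * y⁻¹) * m⁻¹ * s) * m := by rw [h5]
          _ = (s * y⁻¹) * (m⁻¹ * s) * m := by group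
          _ = (s * y⁻¹) * s := by rw [hmi]; group
      have h7 : y * y = 1 := by
        have h8 : s * y⁻¹ * s⁻¹ = y⁻¹ := by
          have h9 : s * y⁻¹ = y⁻¹ * s := mul_left_cancel (a := s) (by rw [h6, mul_assoc])
          rw [h9]; group
        have h9 : (s * y * s⁻¹)⁻¹ = s * y⁻¹ * s⁻¹ := by group
        rw [← h9, hsy, inv_inv] at h8
        nth_rw 1 [h8]
        exact inv_mul_cancel y
      have h8 : y = 1 := by
        calc y = y ^ 3 * (y * y)⁻¹ := by group
          _ = 1 := by rw [hy3, h7]; group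
      rw [h8, inv_one, mul_one, cj_of_comm hm] at h4
      exact hs.ne (H.disj hs.mem h4)
  have hs' : m * s * m⁻¹ ∈ normalizer (L : Set G) := by
    rw [cj_of_comm hm]
    exact L_le_M hs.mem
  have h3 : ∀ y ∈ L, y ^ 3 = 1 → s * y * s⁻¹ = y⁻¹ → m * y * m⁻¹ ∈ normalizer (L : Set G) := by
    intro y hy hy3 hsy
    have h4 : m * y * m⁻¹ = (m * s * m⁻¹)⁻¹ * (m * (s * y) * m⁻¹) := by group
    rw [h4]
    exact mul_mem (inv_mem hs') (h2 y hy hy3 hsy)
  -- `m L m⁻¹ ≤ M`
  obtain ⟨D, hD⟩ : ∃ D : Subgroup L, ∀ l : L, l ∈ D ↔ m * (l : G) * m⁻¹ ∈ normalizer (L : Set G) :=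
    ⟨(normalizer (L : Set G)).comap ((MulAut.conj m).toMonoidHom.comp L.subtype), fun l => Iff.rfl⟩
  have h4 : D = ⊤ := by
    apply F.gen1 ⟨s, hs.mem⟩ (Subtype.ext hs.sq) (fun h => hs.ne (congrArg Subtype.val h))
      ((hX.fix_iff _).mpr hs.comm.symm)
    · intro y hy3 hXy
      rw [hD]
      apply h3 y y.2 (congrArg Subtype.val hy3)
      exact H.invY hs (H.memY.mpr ⟨y.2, congrArg Subtype.val hy3, ((hX.fix_iff y).mp hXy).symm⟩)
    · intro y hy3 hXy
      rw [hD]
      apply h3 y y.2 (congrArg Subtype.val hy3)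
      apply H.inv' hs y.2 (congrArg Subtype.val hy3)
      have h5 := hX (⟨s, hs.mem⟩ * y * ⟨s, hs.mem⟩⁻¹)
      rw [hXy] at h5
      have h6 : (((⟨s, hs.mem⟩ * y * ⟨s, hs.mem⟩⁻¹ : L) : L) : G) = s * y * s⁻¹ := rfl
      rw [h6] at h5
      calc (y : G) * (x * s) = (x * (s * y * s⁻¹) * x⁻¹) * (x * s) := by rw [← h5]
        _ = x * s * y := by group
  exact H.noLm hs.mem hs.ne hm hmM (fun l hl => (hD ⟨l, hl⟩).mp (h4 ▸ mem_top _))

end Ctx

end Cfsg.Agent.UGT.ThEP
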