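import Cfsg.Agent.UGT.ThEP.Five

/-!
# Theorem E for `L = L₃(4)`, paired case, `x ∉ X`: links, (E6)
-/

set_option autoImplicit false

open Subgroup

namespace Cfsg.Agent.UGT.ThEP

open Cfsg.Agent.UGT.ThE
open Cfsg.Agent.UGT.ThE.Base (comm_of_mem L_conj L_conj' K_le_M L_le_M K_conj K_conj' IsT IsS IsT1 exists_central
  exists_sqrt)
open Cfsg.Agent.UGT.ThEL34
open Cfsg.Agent.UGT.CE.L34 (Facts3 Facts4 YY mem_YY)

variable {G : Type*} [Group G]

/-- The hypotheses for `x ∉ S`. -/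
structure Ctx (S L : Subgroup G) (x : G) : Prop extends Base L x where
  SN : S.Normal
  xS : x ∉ S
  LS : L ≤ S
  tS : ∀ t, IsT L x t → t ∈ S
  sgn : ∀ f : G →* ℤˣ, ∀ s ∈ S, f s = 1

namespace Ctx

variable {S L : Subgroup G} {x : G} (H : Ctx S L x)
include H

theorem t1S {t : G} (ht : IsT1 L x t) : t ∈ S := by
  by_cases h : t = 1
  · rw [h]; exact one_mem _
  · exact H.tS t (ht.isT h)

/-- the involutions of `C_S(x)` -/
theorem cls' [Finite G] {e : G} (heS : e ∈ S) (he : e * x = x * e) (hee : e * e = 1) (h1 : e ≠ 1) :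
    IsT L x e ∨ ∃ s, IsS L x s ∧ ∃ t, IsT1 L x t ∧ e = s * t := by
  obtain ⟨X, hX, F⟩ := H.facts
  obtain ⟨b, hb⟩ := exists_acts (H.Cx he)
  have hw : ¬ Wild X b := by
    obtain ⟨χ, -, h⟩ := F.chi1
    intro hw
    obtain ⟨f, hf⟩ := H.exists_sign χ
    have h2 := hf e b hee he hb
    rw [h b hw, H.sgn f e heS] at h2
    exact absurd h2 (by decide)
  rcases H.cls hX F he hee h1 hb hw with h | ⟨t, ht, h⟩ | h | ⟨s, hs, t, ht, h⟩
  · exact Or.inl h
  · exfalso
    apply H.xS
    have : x = e * t⁻¹ := by rw [h]; group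
    rw [this]
    exact mul_mem heS (inv_mem (H.t1S ht))
  · exact Or.inr h
  · exfalso
    apply H.xS
    have : x = e * t⁻¹ * s⁻¹ := by rw [h]; group
    rw [this]
    exact mul_mem (mul_mem heS (inv_mem (H.t1S ht))) (inv_mem (H.LS hs.mem))

/-- the link, for a conjugate `z` of `v` -/
theorem link_cases [Finite G] {v g : G} (hv : IsT L x v) :
    g * v * g⁻¹ ∈ normalizer (L : Set G) ∨ ∃ e ∈ S, e * e = 1 ∧ e ≠ 1 ∧ e * x = x * e ∧
      e * (g * v * g⁻¹) = (g * v * g⁻¹) * e ∧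
      (∀ c, c * x = x * c → c * (g * v * g⁻¹) = (g * v * g⁻¹) * c → c * e = e * c) ∧
      ∃ h, h * (g * v * g⁻¹) * h⁻¹ = (g * v * g⁻¹) * e := by
  have hvX : v ∈ S := H.tS v hv
  obtain ⟨z, hz⟩ : ∃ z, z = g * v * g⁻¹ := ⟨_, rfl⟩
  rw [← hz]
  have hzz : z * z = 1 := by
    rw [hz]
    calc g * v * g⁻¹ * (g * v * g⁻¹) = g * (v * v) * g⁻¹ := by group
      _ = 1 := by rw [hv.sq]; group
  have hzX : z ∈ S := hz ▸ H.SN.conj_mem v hvX g
  obtain ⟨e, hee, he1, hec, hex, hez, h⟩ := Link.link H.SN H.xx H.xS hzz hzX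
  rcases h with ⟨heS, h⟩ | ⟨heS, h, hh⟩
  · exact Or.inr ⟨e, heS, hee, he1, hex, hez, hec, h⟩
  · left
    have h1 : (h * g) * v * (h * g)⁻¹ = x * e := by rw [← hh, hz]; group
    have h2 : (h * g) * v * (h * g)⁻¹ ∈ centralizer (L : Set G) := by
      apply H.tr hv
      rw [h1]
      calc x * e * x = x * (e * x) := by group
        _ = x * (x * e) := by rw [hex]
    have h3 : IsT1 L x (x * e) := by
      refine ⟨?_, ?_, ?_⟩
      · rw [← h1]; exact h2
      · calc x * e * x = x * (e * x) := by group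
          _ = x * (x * e) := by rw [hex]
      · rw [← h1]
        calc h * g * v * (h * g)⁻¹ * (h * g * v * (h * g)⁻¹) = (h * g) * (v * v) * (h * g)⁻¹ := by
              group
          _ = 1 := by rw [hv.sq]; group
    apply H.Ce _ h3
    have h4 : x * (x * e) = e := by rw [← mul_assoc, H.xx, one_mul]
    rw [h4]
    exact hez.symm

/-- **(6)** (E6) -/
theorem e6 [Finite G] {s t₁ v m : G} (hs : IsS L x s) (ht₁ : IsT1 L x t₁) (hv : IsT L x v)
    (hvc : v * (s * t₁) = s * t₁ * v) (hm : m * (s * t₁) = s * t₁ * m) :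
    m * v * m⁻¹ ∈ normalizer (L : Set G) ∨
      ∀ l ∈ L, (m * v * m⁻¹) * l * (m * v * m⁻¹)⁻¹ ∈ centralizer (L : Set G) := by
  obtain ⟨t₀, ht₀⟩ : ∃ t₀, t₀ = s * t₁ := ⟨_, rfl⟩
  rw [← ht₀] at hvc hm
  rcases H.link_cases (g := m) hv with h | ⟨e, heS, hee, he1, hex, hez, hec, h, hh⟩
  · exact Or.inl h
  obtain ⟨z, hz⟩ : ∃ z, z = m * v * m⁻¹ := ⟨_, rfl⟩
  rw [← hz] at hez hec hh ⊢
  have hzt : t₀ * z = z * t₀ := by
    rw [hz]
    calc t₀ * (m * v * m⁻¹) = (t₀ * m) * v * m⁻¹ := by group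
      _ = m * (t₀ * v) * m⁻¹ := by rw [← hm]; group
      _ = m * v * (t₀ * m⁻¹) := by rw [← hvc]; group
      _ = m * v * (m⁻¹ * (m * t₀) * m⁻¹) := by group
      _ = m * v * (m⁻¹ * (t₀ * m) * m⁻¹) := by rw [hm]
      _ = m * v * m⁻¹ * t₀ := by group
  have hst : s * t₁ = t₁ * s := comm_of_mem hs.mem ht₁.mem
  have htx : t₀ * x = x * t₀ := by
    rw [ht₀]
    calc s * t₁ * x = s * (t₁ * x) := by group
      _ = (s * x) * t₁ := by rw [ht₁.comm]; group
      _ = x * (s * t₁) := by rw [hs.comm]; group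
  have het : t₀ * e = e * t₀ := hec t₀ htx hzt
  rcases H.cls' heS hex hee he1 with h1 | ⟨s', hs', t', ht', h1⟩
  · exact H.cmp e e z h1 h1 (by rw [← hez]; group)
  · have c1 : s * s' = s' * s := by
      have h2 : (s' * s)⁻¹ * (s * s') = t' * t₁ * (t₁ * t')⁻¹ := by
        have h3 : (s * s') * (t₁ * t') = (s' * s) * (t' * t₁) := by
          calc (s * s') * (t₁ * t') = s * (s' * t₁) * t' := by group
            _ = s * (t₁ * s') * t' := by rw [comm_of_mem hs'.mem ht₁.mem]
            _ = t₀ * e := by rw [ht₀, h1]; group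
            _ = e * t₀ := het
            _ = s' * (t' * s) * t₁ := by rw [ht₀, h1]; group
            _ = s' * (s * t') * t₁ := by rw [comm_of_mem hs.mem ht'.mem]
            _ = _ := by group
        calc (s' * s)⁻¹ * (s * s') = (s' * s)⁻¹ * ((s * s') * (t₁ * t')) * (t₁ * t')⁻¹ := by group
          _ = (s' * s)⁻¹ * ((s' * s) * (t' * t₁)) * (t₁ * t')⁻¹ := by rw [h3]
          _ = _ := by group
      have h3 : (s' * s)⁻¹ * (s * s') = 1 := H.disj
        (mul_mem (inv_mem (mul_mem hs'.mem hs.mem)) (mul_mem hs.mem hs'.mem)) (by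
          rw [h2]
          exact mul_mem (mul_mem ht'.mem ht₁.mem) (inv_mem (mul_mem ht₁.mem ht'.mem)))
      exact (inv_mul_eq_one.mp h3).symm
    have c2 := H.commS hs hs' c1
    rw [← c2] at h1
    have c3 : t' * t₁ = t₁ * t' := by
      apply mul_left_cancel (a := s * s)
      calc s * s * (t' * t₁) = s * (s * t') * t₁ := by group
        _ = s * (t' * s) * t₁ := by rw [comm_of_mem hs.mem ht'.mem]
        _ = (s * t') * (s * t₁) := by group
        _ = t₀ * e := by rw [← h1, ← ht₀, het]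
        _ = s * (t₁ * s) * t' := by rw [ht₀, h1]; group
        _ = s * s * (t₁ * t') := by rw [← hst]; group
    by_cases hne : t' = t₁
    · exfalso
      have h2 : e = t₀ := by rw [h1, hne, ht₀]
      rw [h2] at hh
      have h3 : (m⁻¹ * h * m) * v * (m⁻¹ * h * m)⁻¹ = v * t₀ := by
        calc (m⁻¹ * h * m) * v * (m⁻¹ * h * m)⁻¹ = m⁻¹ * (h * (m * v * m⁻¹) * h⁻¹) * m := by group
          _ = m⁻¹ * (z * t₀) * m := by rw [← hz, hh]
          _ = m⁻¹ * (m * v * m⁻¹) * (t₀ * m) := by rw [hz]; group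
          _ = m⁻¹ * (m * v * m⁻¹) * (m * t₀) := by rw [hm]
          _ = v * t₀ := by group
      have h5 : v * t₀ ∈ centralizer (L : Set G) := by
        rw [← h3]
        apply H.tr hv
        rw [h3]
        calc v * t₀ * x = v * (t₀ * x) := by group
          _ = (v * x) * t₀ := by rw [htx]; group
          _ = x * (v * t₀) := by rw [hv.comm]; group
      have h6 : s ∈ centralizer (L : Set G) := by
        have : s = v⁻¹ * (v * t₀) * t₁⁻¹ := by rw [ht₀]; group
        rw [this]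
        exact mul_mem (mul_mem (inv_mem hv.mem) h5) (inv_mem ht₁.mem)
      exact hs.ne (H.disj hs.mem h6)
    · have h2 : IsT L x (t' * t₁) := by
        refine (ht'.mul ht₁ c3).isT ?_
        intro h3
        apply hne
        rw [eq_inv_of_mul_eq_one_left h3, inv_eq_of_mul_eq_one_left ht₁.sq]
      have h3 : e * t₀ = t' * t₁ := by
        rw [h1, ht₀]
        calc s * t' * (s * t₁) = s * (t' * s) * t₁ := by group
          _ = (s * s) * (t' * t₁) := by rw [← comm_of_mem hs.mem ht'.mem]; group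
          _ = t' * t₁ := by rw [hs.sq, one_mul]
      refine H.cmp _ _ z h2 h2 ?_
      rw [← h3]
      have h4 : z * (e * t₀) = e * t₀ * z := by
        calc z * (e * t₀) = (z * e) * t₀ := by group
          _ = e * (z * t₀) := by rw [← hez]; group
          _ = e * t₀ * z := by rw [← hzt]; group
      rw [h4]; group

end Ctx

end Cfsg.Agent.UGT.ThEP
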